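import Groth.Agent.RelPC.Away
import Groth.Agent.DRingKP.TorMore
import Mathlib.RingTheory.TensorProduct.MvPolynomial

/-!
Derived base change along a pseudo-coherent map.
-/

set_option autoImplicit false
set_option linter.style.haveILetI false
universe u

namespace Groth.Agent.RelPC

open CategoryTheory Limits DerivedCategory MonoidalCategory HomologicalComplex
open Groth.Agent.DRingKP
open scoped TensorProduct

attribute [local instance] HasDerivedCategory.standard

section

variable {Q A' : Type u} [CommRing Q] [CommRing A'] (f : Q →+* A') (L : DRing.Cx A')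

/-- `N ⊗ L`, over `Q` -/
noncomputable def tensCx (N : ModuleCat.{u} A') : DRing.Cx Q :=
  ((tensorLeft N ⋙ ModuleCat.restrictScalars.{u} f).mapHomologicalComplex (ComplexShape.up ℤ)).obj L

/-- functoriality -/
noncomputable def tensMap {N N' : ModuleCat.{u} A'} (g : N ⟶ N') : tensCx f L N ⟶ tensCx f L N' where
  f i := (ModuleCat.restrictScalars.{u} f).map (g ▷ L.X i)
  comm' i j _ := by
    change (ModuleCat.restrictScalars.{u} f).map (g ▷ L.X i) ≫ (ModuleCat.restrictScalars.{u} f).map (N' ◁ L.d i j) =
      (ModuleCat.restrictScalars.{u} f).map (N ◁ L.d i j) ≫ (ModuleCat.restrictScalars.{u} f).map (g ▷ L.X j)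
    rw [← Functor.map_comp, ← Functor.map_comp, whisker_exchange]

/-- a short exact sequence of modules gives one of complexes -/
lemma exists_tensSeq (hL : ∀ i, Module.Flat A' (L.X i)) {S : ShortComplex (ModuleCat.{u} A')} (hS : S.ShortExact) :
    ∃ S' : ShortComplex (DRing.Cx Q), S'.ShortExact ∧ S'.X₁ = tensCx f L S.X₁ ∧ S'.X₂ = tensCx f L S.X₂ ∧
      S'.X₃ = tensCx f L S.X₃ := by
  let G : ℤ → (ModuleCat.{u} A' ⥤ ModuleCat.{u} Q) := fun i => tensorRight (L.X i) ⋙ ModuleCat.restrictScalars.{u} f
  have h0 : tensMap f L S.f ≫ tensMap f L S.g = 0 := HomologicalComplex.hom_ext _ _ fun i => by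
    change (G i).map S.f ≫ (G i).map S.g = 0
    rw [← Functor.map_comp, S.zero, Functor.map_zero]
  refine ⟨ShortComplex.mk _ _ h0, HomologicalComplex.shortExact_of_degreewise_shortExact _ fun i => ?_,
    rfl, rfl, rfl⟩
  haveI := hL i
  have h : (S.map (tensorRight (L.X i))).ShortExact :=
    { exact := (ShortComplex.ShortExact.moduleCat_exact_iff_function_exact _).2
        (rTensor_exact (L.X i) ((ShortComplex.ShortExact.moduleCat_exact_iff_function_exact _).1 hS.exact)
          hS.moduleCat_surjective_g)
      mono_f := (ModuleCat.mono_iff_injective _).2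
        (Module.Flat.rTensor_preserves_injective_linearMap _ hS.moduleCat_injective_f)
      epi_g := (ModuleCat.epi_iff_surjective _).2 (LinearMap.rTensor_surjective _ hS.moduleCat_surjective_g) }
  exact h.map_of_exact (ModuleCat.restrictScalars.{u} f)

lemma tens_pc_free (hL : ∀ i, Module.Flat A' (L.X i)) (m : ℤ)
    (h : DRing.IsPseudoCoherent Q m (DRing.toD (((ModuleCat.restrictScalars.{u} f).mapHomologicalComplex
      (ComplexShape.up ℤ)).obj L))) :
    ∀ r : ℕ, DRing.IsPseudoCoherent Q m (DRing.toD (tensCx f L (ModuleCat.of A' (Fin r → A')))) := by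
  intro r
  induction r with
  | zero =>
    refine pc_of_isAbove fun i _ => ?_
    refine (DerivedCategory.Q ⋙ DerivedCategory.homologyFunctor _ i).map_isZero
      ((IsZero.iff_id_eq_zero _).2 (HomologicalComplex.hom_ext _ _ fun j => ?_))
    exact IsZero.eq_of_src ((ModuleCat.restrictScalars.{u} f).map_isZero
      ((tensorRight (L.X j)).map_isZero (ModuleCat.isZero_of_subsingleton (ModuleCat.of A' (Fin 0 → A'))))) _ _
  | succ r ih =>
    let i₀ : ModuleCat.of A' A' ⟶ ModuleCat.of A' (Fin (r + 1) → A') :=
      ModuleCat.ofHom (LinearMap.single A' (fun _ : Fin (r + 1) => A') 0)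
    let q₀ : ModuleCat.of A' (Fin (r + 1) → A') ⟶ ModuleCat.of A' (Fin r → A') :=
      ModuleCat.ofHom (LinearMap.funLeft A' A' Fin.succ)
    have hex : Function.Exact i₀.hom q₀.hom := fun x => ⟨fun hx => by
      refine ⟨x 0, funext fun j => ?_⟩
      refine Fin.cases ?_ (fun j => ?_) j
      · simp [i₀]
      · have hj := congrFun hx j
        simp only [q₀, ModuleCat.hom_ofHom, LinearMap.funLeft_apply, Pi.zero_apply] at hj
        simp [i₀, hj]
        rfl,
      by rintro ⟨a, rfl⟩; ext j; simp [i₀, q₀, LinearMap.funLeft_apply]; rfl⟩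
    have hS : (ShortComplex.mk i₀ q₀ (ModuleCat.hom_ext (LinearMap.ext fun a => hex.apply_apply_eq_zero a))).ShortExact :=
      { exact := (ShortComplex.ShortExact.moduleCat_exact_iff_function_exact _).2 hex
        mono_f := (ModuleCat.mono_iff_injective _).2 (Pi.single_injective (M := fun _ : Fin (r + 1) => A') 0)
        epi_g := (ModuleCat.epi_iff_surjective _).2
          (LinearMap.funLeft_surjective_of_injective A' A' Fin.succ (Fin.succ_injective r)) }
    obtain ⟨S', hS', e₁, e₂, e₃⟩ := exists_tensSeq f L hL hS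
    have h1 : DRing.IsPseudoCoherent Q m (DRing.toD (tensCx f L (ModuleCat.of A' A'))) :=
      pc_of_iso (DerivedCategory.Q.mapIso (((ModuleCat.restrictScalars.{u} f).mapHomologicalComplex _).mapIso
        ((NatIso.mapHomologicalComplex (leftUnitorNatIso (ModuleCat.{u} A')) (ComplexShape.up ℤ)).app L ≪≫
          (Functor.mapHomologicalComplexIdIso (ModuleCat.{u} A') (ComplexShape.up ℤ)).app L).symm)) h
    rw [← e₁] at h1
    rw [← e₃] at ih
    rw [← e₂]
    exact pc_obj₂ _ (DerivedCategory.triangleOfSES_distinguished hS') m h1 ih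

theorem tens_pc {b : ℤ} (hb : DRing.VanishesAbove L b) (hL : ∀ i, Module.Flat A' (L.X i)) :
    ∀ (d : ℕ) (m : ℤ), b + 1 ≤ m + d →
      DRing.IsPseudoCoherent Q m (DRing.toD (((ModuleCat.restrictScalars.{u} f).mapHomologicalComplex
        (ComplexShape.up ℤ)).obj L)) →
      ∀ N : ModuleCat.{u} A', DRing.IsPseudoCoherentModule' A' N →
        DRing.IsPseudoCoherent Q m (DRing.toD (tensCx f L N)) := by
  intro d
  induction d with
  | zero =>
    intro m hm _ N _
    refine pc_of_isAbove fun i hi => ?_
    refine IsZero.of_iso ?_ ((homologyFunctorFactors (ModuleCat.{u} Q) i).app _)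
    exact ShortComplex.isZero_homology_of_isZero_X₂ _
      ((ModuleCat.restrictScalars.{u} f).map_isZero ((tensorLeft N).map_isZero (hb i (by lia))))
  | succ d ih =>
    intro m hm h N hN
    haveI : Module.Finite A' N := (pcModule_zero_iff N).1 (pc_of_pc' hN 0)
    obtain ⟨r, p, hp⟩ := Module.Finite.exists_fin' A' N
    let i := (LinearMap.ker p).subtype
    have hS : (ShortComplex.mk (ModuleCat.ofHom i) (ModuleCat.ofHom p)
        (ModuleCat.hom_ext (LinearMap.ext fun x => x.2))).ShortExact :=
      { exact := (ShortComplex.moduleCat_exact_iff_range_eq_ker _).2 (Submodule.range_subtype _)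
        mono_f := (ModuleCat.mono_iff_injective _).2 Subtype.val_injective
        epi_g := (ModuleCat.epi_iff_surjective _).2 hp }
    have hK : DRing.IsPseudoCoherentModule' A' ↥(LinearMap.ker p) := pc'_of_forall fun k => by
      have := pc_obj₁ _ hS.singleTriangle_distinguished (k - 1)
        (pcModule_of_free (ModuleCat.of A' (Fin r → A')) _) (pc_of_pc' hN (k - 1))
      rwa [sub_add_cancel] at this
    obtain ⟨S', hS', e₁, e₂, e₃⟩ := exists_tensSeq f L hL hS
    have h1 := ih (m + 1) (by lia) (pc_mono (by lia) h) (ModuleCat.of A' ↥(LinearMap.ker p)) hK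
    have h2 := tens_pc_free f L hL m h r
    rw [← e₁] at h1
    rw [← e₂] at h2
    rw [← e₃]
    exact pc_obj₃ _ (DerivedCategory.triangleOfSES_distinguished hS') m h1 h2

variable {B : Type u} [CommRing B] (φ : A' →+* B)

lemma bc_smul_eq (M : ModuleCat.{u} A') (a : A')
    (x : ((ModuleCat.restrictScalars.{u} φ).obj (ModuleCat.of B B) ⊗ M : ModuleCat.{u} A')) :
    φ a • (show (ModuleCat.extendScalars.{u, u, u} φ).obj M from x) =
      (show (ModuleCat.extendScalars.{u, u, u} φ).obj M from a • x) := by
  induction x using TensorProduct.induction_on with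
  | zero =>
    exact (smul_zero (A := (ModuleCat.extendScalars.{u, u, u} φ).obj M) _).trans
      (smul_zero (A := ((ModuleCat.restrictScalars.{u} φ).obj (ModuleCat.of B B) ⊗ M : ModuleCat.{u} A')) a).symm
  | tmul b y => rfl
  | add x y hx hy =>
    exact (smul_add (A := (ModuleCat.extendScalars.{u, u, u} φ).obj M) _ x y).trans
      ((congrArg₂ (· + ·) hx hy).trans (smul_add a x y).symm)

/-- base change followed by restriction is tensoring -/
noncomputable def bcTensIso :
    ((ModuleCat.restrictScalars.{u} (φ.comp f)).mapHomologicalComplex (ComplexShape.up ℤ)).obj ((bc φ).obj L) ≅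
      tensCx f L ((ModuleCat.restrictScalars.{u} φ).obj (ModuleCat.of B B)) :=
  let T := (ModuleCat.restrictScalars.{u} φ).obj (ModuleCat.of B B)
  HomologicalComplex.Hom.isoOfComponents
    (fun n => (({ toFun := fun x => x
                  map_add' := fun _ _ => rfl
                  map_smul' := fun q x => bc_smul_eq φ (L.X n) (f q) x
                  invFun := fun x => x
                  left_inv := fun _ => rfl
                  right_inv := fun _ => rfl } :
        (ModuleCat.restrictScalars.{u} (φ.comp f)).obj ((ModuleCat.extendScalars.{u, u, u} φ).obj (L.X n)) ≃ₗ[Q]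
          (ModuleCat.restrictScalars.{u} f).obj (T ⊗ L.X n))).toModuleIso)
    (fun i j _ => by
      refine ModuleCat.hom_ext (LinearMap.ext fun x => ?_)
      induction x using TensorProduct.induction_on with
      | zero => exact (map_zero _).trans (map_zero _).symm
      | tmul b y => rfl
      | add x y hx hy => exact (map_add _ x y).trans ((congrArg₂ (· + ·) hx hy).trans (map_add _ x y).symm))

theorem pc_bc_of_pcHom (hφ : PCHom φ) {b : ℤ} (hb : DRing.VanishesAbove L b)
    (hL : ∀ i, Module.Flat A' (L.X i)) (m : ℤ)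
    (h : DRing.IsPseudoCoherent Q m (DRing.toD (((ModuleCat.restrictScalars.{u} f).mapHomologicalComplex
        (ComplexShape.up ℤ)).obj L))) :
    DRing.IsPseudoCoherent Q m ((DRing.restrictD (φ.comp f)).obj (DRing.toD ((bc φ).obj L))) := by
  have hN : DRing.IsPseudoCoherentModule' A' ((ModuleCat.restrictScalars.{u} φ).obj (ModuleCat.of B B)) :=
    pc'_of_forall fun k => pc_of_iso (resInDIso φ (ModuleCat.of B B)) (pc_of_pc' hφ k)
  exact pc_of_iso ((ModuleCat.restrictScalars.{u} (φ.comp f)).mapDerivedCategoryFactors.app _ ≪≫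
      DerivedCategory.Q.mapIso (bcTensIso f L φ)).symm
    (tens_pc f L hb hL (b + 1 - m).toNat m (by lia) h _ hN)

end

/-- base change in stages -/
noncomputable def bcCompIso {A B C : Type u} [CommRing A] [CommRing B] [CommRing C] (f : A →+* B) (g : B →+* C)
    (h : A →+* C) (hh : g.comp f = h) (L : DRing.Cx A) :
    (bc g).obj ((bc f).obj L) ≅ (bc h).obj L :=
  HomologicalComplex.Hom.isoOfComponents (C₁ := (bc g).obj ((bc f).obj L)) (C₂ := (bc h).obj L)
    (fun n => ((ModuleCat.extendScalarsComp.{u} f g).symm ≪≫ eqToIso (show ModuleCat.extendScalars.{u, u, u} (g.comp f) = ModuleCat.extendScalars.{u, u, u} h by rw [hh])).app (L.X n))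
    (fun i j _ => (((ModuleCat.extendScalarsComp.{u} f g).symm ≪≫ eqToIso (show ModuleCat.extendScalars.{u, u, u} (g.comp f) = ModuleCat.extendScalars.{u, u, u} h by rw [hh])).hom.naturality (L.d i j)).symm)

section

variable {R A B : Type u} [CommRing R] [CommRing A] [CommRing B] [Algebra R A] [Algebra A B] [Algebra R B]
  [IsScalarTower R A B] [Algebra.FiniteType R A] [Algebra.FiniteType A B] [DRing.HasLBaseChange (algebraMap A B)]

set_option maxHeartbeats 1000000 in
/-- derived base change of relatively pseudo-coherent complexes -/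
theorem rel_lbc (hB : DerCA.IsRelPseudoCoherentModuleAll A B B) (K : Dual.D A) (m : ℤ)
    (hK : DerCA.IsRelPseudoCoherent R A m K) :
    DerCA.IsRelPseudoCoherent R B m ((DRing.LBaseChange (algebraMap A B)).obj K) := by
  obtain ⟨n, α, hα⟩ := Algebra.FiniteType.iff_quotient_mvPolynomial''.1 (inferInstance : Algebra.FiniteType R A)
  obtain ⟨k, β, hβ⟩ := Algebra.FiniteType.iff_quotient_mvPolynomial''.1 (inferInstance : Algebra.FiniteType A B)
  let P := MvPolynomial (Fin n) R
  let P' := MvPolynomial (Fin k) P
  let A' := MvPolynomial (Fin k) A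
  letI : Algebra P A := α.toRingHom.toAlgebra
  letI : Algebra P' A' := MvPolynomial.algebraMvPolynomial
  have hφ : PCHom β.toRingHom := (relAll_iff β hβ _).1 hB
  have hPK := (rel_iff α hα m K).1 hK
  obtain ⟨c, hc⟩ := pc_bounded hPK
  obtain ⟨L, b, hb, hL, ⟨e⟩⟩ := exists_proj_rep_le K ⟨c, (isAbove_res α.toRingHom).1 hc⟩
  haveI := isKProjective_of_vanishesAbove hb hL
  let L' : DRing.Cx A' := (bc (algebraMap A A')).obj L
  have hb' : DRing.VanishesAbove L' b := fun i hi =>
    (ModuleCat.extendScalars.{u, u, u} (algebraMap A A')).map_isZero (hb i hi)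
  have hL' : ∀ i, Module.Flat A' (L'.X i) := fun i =>
    extendScalars_flat (algebraMap A A') (flat_of_projective hL i)
  have h1 : DRing.IsPseudoCoherent P m
      (DRing.toD (((ModuleCat.restrictScalars.{u} α.toRingHom).mapHomologicalComplex (ComplexShape.up ℤ)).obj L)) :=
    pc_of_iso ((DRing.restrictD α.toRingHom).mapIso e.symm ≪≫
      (ModuleCat.restrictScalars.{u} α.toRingHom).mapDerivedCategoryFactors.app L) hPK
  haveI : Module.Flat P P' := inferInstance
  have h2 : DRing.IsPseudoCoherent P' m
      (DRing.toD (((ModuleCat.restrictScalars.{u} (algebraMap P' A')).mapHomologicalComplex (ComplexShape.up ℤ)).obj L')) :=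
    pc_of_iso (DerivedCategory.Q.mapIso (bcSquareCxIso (P := P) (Q := P') (B := A') L))
      (pc_bc_of_flat (algebraMap P P') (RingHom.flat_algebraMap_iff.mpr inferInstance) _ m h1)
  have h3 := pc_bc_of_pcHom (algebraMap P' A') L' β.toRingHom hφ hb' hL' m h2
  let ψ : P' →ₐ[R] B :=
    { β.toRingHom.comp (algebraMap P' A') with
      commutes' := fun r => by
        show β (MvPolynomial.map α.toRingHom (algebraMap R _ r)) = _
        rw [MvPolynomial.algebraMap_apply, MvPolynomial.map_C]
        change β (MvPolynomial.C (α (algebraMap R P r))) = _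
        rw [AlgHom.commutes, ← MvPolynomial.algebraMap_eq, AlgHom.commutes, ← IsScalarTower.algebraMap_apply] }
  have hψ : Function.Surjective ψ := hβ.comp (MvPolynomial.map_surjective α.toRingHom hα)
  refine (rel_iff_iter ψ hψ m _).2 (pc_of_iso ?_ h3)
  exact (DRing.restrictD (β.toRingHom.comp (algebraMap P' A'))).mapIso
    (DerivedCategory.Q.mapIso (bcCompIso (algebraMap A A') β.toRingHom (algebraMap A B)
        (RingHom.ext fun a => β.commutes a) L) ≪≫
      (lBaseChangeIso (algebraMap A B) L).symm ≪≫ (DRing.LBaseChange (algebraMap A B)).mapIso e)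

end

end Groth.Agent.RelPC
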