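import Groth.Agent.RelPC.Basic
import Groth.Agent.DRingKP.BCModule
import Groth.Agent.S7068

/-!
Relative pseudo-coherence: more pseudo-coherent maps and iterated presentations.
-/

set_option autoImplicit false
set_option linter.style.haveILetI false
universe u

namespace Groth.Agent.RelPC

open CategoryTheory Limits DerivedCategory
open Groth.Agent.DRingKP
open scoped TensorProduct

attribute [local instance] HasDerivedCategory.standard

variable {R A B : Type u} [CommRing R] [CommRing A] [CommRing B]

/-- a presentation of a flat finitely presented algebra is pseudo-coherent -/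
theorem pcHom_of_flat_fp [Algebra A B] [Module.Flat A B] [Algebra.FinitePresentation A B] {n : ℕ}
    (φ : MvPolynomial (Fin n) A →ₐ[A] B) (hφ : Function.Surjective φ) : PCHom φ.toRingHom := by
  obtain ⟨⟨k, ψ, hψ, hpc⟩, -⟩ := Groth.Agent.S7068.result A B
  have h : PCHom ψ.toRingHom := by
    letI := ψ.toRingHom.toAlgebra
    exact (pcHom_iff_module (MvPolynomial (Fin k) A) B).2 hpc
  rw [PCHom, pc'_iff] at h ⊢
  exact fun m => (via_iff ψ hψ φ hφ m (Dual.inD B B)).1 (h m)

/-- quotient by a monic polynomial -/
lemma pcHom_adjoinRoot_mk {q : Polynomial A} (hq : q.Monic) : PCHom (AdjoinRoot.mk q) := by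
  letI := (AdjoinRoot.mk q).toAlgebra
  refine (pcHom_iff_module (Polynomial A) (AdjoinRoot q)).2 (pc'_of_forall fun k => ?_)
  let f : ModuleCat.of (Polynomial A) (Polynomial A) ⟶ ModuleCat.of (Polynomial A) (Polynomial A) :=
    ModuleCat.ofHom (LinearMap.mulRight (Polynomial A) q)
  let g : ModuleCat.of (Polynomial A) (Polynomial A) ⟶ ModuleCat.of (Polynomial A) (AdjoinRoot q) :=
    ModuleCat.ofHom (Algebra.linearMap (Polynomial A) (AdjoinRoot q))
  have hz : f ≫ g = 0 := by
    ext
    simp [f, g, RingHom.algebraMap_toAlgebra]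
  have hinj : Function.Injective f.hom := fun x y h => hq.isRegular.right h
  have hsurj : Function.Surjective g.hom := AdjoinRoot.mk_surjective
  have hex : (ShortComplex.mk f g hz).Exact := by
    rw [ShortComplex.moduleCat_exact_iff]
    intro p hp
    obtain ⟨c, hc⟩ := AdjoinRoot.mk_eq_zero.1 (show AdjoinRoot.mk q p = 0 from hp)
    exact ⟨c, by simp [f, hc, mul_comm]⟩
  exact pcModule_quotient
    { exact := hex, mono_f := (ModuleCat.mono_iff_injective f).2 hinj,
      epi_g := (ModuleCat.epi_iff_surjective g).2 hsurj } k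
    (pcModule_of_free (ModuleCat.of (Polynomial A) (Polynomial A)) _)
    (pcModule_of_free (ModuleCat.of (Polynomial A) (Polynomial A)) _)

/-- adjoining one integral element to a presentation does not change pseudo-coherence -/
theorem pc_eval₂_iff (f : A →+* B) {b : B} (hb : f.IsIntegralElem b) (m : ℤ) (K : Dual.D B) :
    DRing.IsPseudoCoherent (Polynomial A) m ((DRing.restrictD (Polynomial.eval₂RingHom f b)).obj K) ↔
      DRing.IsPseudoCoherent A m ((DRing.restrictD f).obj K) := by
  obtain ⟨q, hq, hqb⟩ := hb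
  let L := AdjoinRoot.lift f b hqb
  have h1 : Polynomial.eval₂RingHom f b = L.comp (AdjoinRoot.mk q) :=
    Polynomial.ringHom_ext (fun a => by simp [L]) (by simp [L])
  have h2 : f = L.comp (algebraMap A (AdjoinRoot q)) :=
    RingHom.ext fun a => by simp [L, AdjoinRoot.algebraMap_eq]
  haveI : Module.Finite A (AdjoinRoot q) := Module.Finite.of_basis (AdjoinRoot.powerBasis' hq).basis
  haveI : Module.Free A (AdjoinRoot q) := Module.Free.of_basis (AdjoinRoot.powerBasis' hq).basis
  rw [h1]
  conv_rhs => rw [h2]
  exact ((pcHom_adjoinRoot_mk hq).pc_comp_iff L m K).trans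
    ((pcHom_of_finite_free (A := A) (B := AdjoinRoot q)).pc_comp_iff L m K).symm

/-- adjoining finitely many integral elements to a presentation does not change pseudo-coherence -/
theorem pc_eval₂Hom_iff (f : A →+* B) : ∀ {k : ℕ} (b : Fin k → B), (∀ j, f.IsIntegralElem (b j)) →
    ∀ (m : ℤ) (K : Dual.D B),
      DRing.IsPseudoCoherent (MvPolynomial (Fin k) A) m ((DRing.restrictD (MvPolynomial.eval₂Hom f b)).obj K) ↔
        DRing.IsPseudoCoherent A m ((DRing.restrictD f).obj K) := by
  intro k
  induction k with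
  | zero =>
    intro b _ m K
    have hbij : Function.Bijective (MvPolynomial.C : A →+* MvPolynomial (Fin 0) A) :=
      ⟨MvPolynomial.C_injective _ _, MvPolynomial.C_surjective _⟩
    conv_rhs => rw [show f = (MvPolynomial.eval₂Hom f b).comp MvPolynomial.C from RingHom.ext fun a => by simp]
    exact ((pcHom_of_bijective hbij).pc_comp_iff _ m K).symm
  | succ k ih =>
    intro b hb m K
    let f' : MvPolynomial (Fin k) A →+* B := MvPolynomial.eval₂Hom f (b ∘ Fin.succ)
    have h : MvPolynomial.eval₂Hom f b = (Polynomial.eval₂RingHom f' (b 0)).comp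
        ((MvPolynomial.finSuccEquiv A k).toRingEquiv : MvPolynomial (Fin (k + 1)) A →+* _) := by
      refine MvPolynomial.ringHom_ext (fun a => ?_) fun i => ?_
      · simp [MvPolynomial.finSuccEquiv_apply, f']
      · refine Fin.cases ?_ (fun j => ?_) i
        · simp [MvPolynomial.finSuccEquiv_X_zero, f']
        · simp [MvPolynomial.finSuccEquiv_X_succ, f']
    have hb0 : f'.IsIntegralElem (b 0) := by
      obtain ⟨q, hq, hqb⟩ := hb 0
      refine ⟨q.map MvPolynomial.C, hq.map _, ?_⟩
      rw [Polynomial.eval₂_map, show f'.comp MvPolynomial.C = f from RingHom.ext fun a => by simp [f']]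
      exact hqb
    rw [h]
    exact ((pcHom_of_ringEquiv _).pc_comp_iff _ m K).trans
      ((pc_eval₂_iff f' hb0 m K).trans (ih (b ∘ Fin.succ) (fun j => hb _) m K))

/-- adjoining variables preserves pseudo-coherent maps -/
theorem PCHom.map {f : A →+* B} (hf : PCHom f) (σ : Type) [Finite σ] :
    PCHom (MvPolynomial.map (σ := σ) f) := by
  letI := f.toAlgebra
  have h := (pcHom_iff_module A B).1 hf
  letI : Algebra (MvPolynomial σ A) (MvPolynomial σ B) := MvPolynomial.algebraMvPolynomial
  refine (pcHom_iff_module (MvPolynomial σ A) (MvPolynomial σ B)).2 (pc'_of_forall fun m => ?_)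
  exact pcModule_of_iso
    (Algebra.IsPushout.equiv A (MvPolynomial σ A) B (MvPolynomial σ B)).toLinearEquiv.toModuleIso
    (pcModule_baseChange (B := MvPolynomial σ A) m B (pc_of_pc' h m))

/-- iterated presentations -/
theorem rel_iff_iter [Algebra R B] {n k : ℕ}
    (ψ : MvPolynomial (Fin k) (MvPolynomial (Fin n) R) →ₐ[R] B) (hψ : Function.Surjective ψ)
    (m : ℤ) (K : Dual.D B) :
    DerCA.IsRelPseudoCoherent R B m K ↔
      DRing.IsPseudoCoherent (MvPolynomial (Fin k) (MvPolynomial (Fin n) R)) m
        ((DRing.restrictD ψ.toRingHom).obj K) := by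
  let e := (MvPolynomial.renameEquiv R (finSumFinEquiv (m := k) (n := n)).symm).trans
    (MvPolynomial.sumAlgEquiv R (Fin k) (Fin n))
  refine (rel_iff (ψ.comp e.toAlgHom) (hψ.comp e.surjective) m K).trans ?_
  exact (pcHom_of_ringEquiv e.toRingEquiv).pc_comp_iff ψ.toRingHom m K

end Groth.Agent.RelPC
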