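import Groth.Agent.RelPC.More
import Groth.Agent.DRingKP.Descend
import Mathlib.RingTheory.Localization.BaseChange
import Mathlib.Algebra.Category.ModuleCat.ChangeOfRings

/-!
Relative pseudo-coherence and localisations.
-/

set_option autoImplicit false
set_option linter.style.haveILetI false
universe u

namespace Groth.Agent.RelPC

open CategoryTheory Limits DerivedCategory MonoidalCategory
open Groth.Agent.DRingKP
open scoped TensorProduct

attribute [local instance] HasDerivedCategory.standard

section Square

variable {P Q A B : Type u} [CommRing P] [CommRing Q] [CommRing A] [CommRing B] [Algebra P Q] [Algebra P A]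
  [Algebra P B] [Algebra Q B] [Algebra A B] [IsScalarTower P Q B] [IsScalarTower P A B]
  [Algebra.IsPushout P Q A B]

/-- the comparison map -/
noncomputable def bcSquareHom (M : ModuleCat.{u} A) :
    (ModuleCat.extendScalars.{u, u, u} (algebraMap P Q)).obj ((ModuleCat.restrictScalars.{u} (algebraMap P A)).obj M) ⟶
      (ModuleCat.restrictScalars.{u} (algebraMap Q B)).obj ((ModuleCat.extendScalars.{u, u, u} (algebraMap A B)).obj M) :=
  ((ModuleCat.extendRestrictScalarsAdj.{u} (algebraMap P Q)).homEquiv _ _).symm
    (ModuleCat.ofHom
      (X := (ModuleCat.restrictScalars.{u} (algebraMap P A)).obj M)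
      (Y := (ModuleCat.restrictScalars.{u} (algebraMap P Q)).obj ((ModuleCat.restrictScalars.{u} (algebraMap Q B)).obj
        ((ModuleCat.extendScalars.{u, u, u} (algebraMap A B)).obj M)))
      { toFun := fun x => ((ModuleCat.extendRestrictScalarsAdj.{u} (algebraMap A B)).unit.app M).hom x
        map_add' := fun x y => map_add ((ModuleCat.extendRestrictScalarsAdj.{u} (algebraMap A B)).unit.app M).hom x y
        map_smul' := fun c x => by
          refine (map_smul ((ModuleCat.extendRestrictScalarsAdj.{u} (algebraMap A B)).unit.app M).hom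
            (algebraMap P A c) x).trans ?_
          show algebraMap A B (algebraMap P A c) • _ = algebraMap Q B (algebraMap P Q c) •
            (show (ModuleCat.extendScalars.{u, u, u} (algebraMap A B)).obj M from
              ((ModuleCat.extendRestrictScalarsAdj.{u} (algebraMap A B)).unit.app M).hom x)
          rw [← IsScalarTower.algebraMap_apply, ← IsScalarTower.algebraMap_apply]
          rfl })

lemma bcSquareHom_tmul (M : ModuleCat.{u} A) (s : Q) (x : M) :
    (bcSquareHom (P := P) (Q := Q) (B := B) M).hom
        ((show (ModuleCat.restrictScalars.{u} (algebraMap P Q)).obj (ModuleCat.of Q Q) from s) ⊗ₜ[P]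
          (show (ModuleCat.restrictScalars.{u} (algebraMap P A)).obj M from x)) =
      ((show (ModuleCat.restrictScalars.{u} (algebraMap A B)).obj (ModuleCat.of B B) from algebraMap Q B s) ⊗ₜ[A] x) := by
  change algebraMap Q B s • (show (ModuleCat.extendScalars.{u, u, u} (algebraMap A B)).obj M from
      ((ModuleCat.extendRestrictScalarsAdj.{u} (algebraMap A B)).unit.app M).hom x) = _
  exact (ModuleCat.ExtendScalars.smul_tmul (f := algebraMap A B) (algebraMap Q B s) (1 : B) x).trans
    (congrArg (fun b : B => (show (ModuleCat.restrictScalars.{u} (algebraMap A B)).obj (ModuleCat.of B B) from b) ⊗ₜ[A] x)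
      (mul_one (algebraMap Q B s)))

lemma bcSquareHom_bijective (M : ModuleCat.{u} A) :
    Function.Bijective (bcSquareHom (P := P) (Q := Q) (B := B) M).hom := by
  letI : Module P M := Module.compHom M (algebraMap P A)
  haveI : IsScalarTower P A M := ⟨fun p a x => by rw [Algebra.smul_def, mul_smul]; rfl⟩
  let i : ((ModuleCat.restrictScalars.{u} (algebraMap P A)).obj M) ≃ₗ[P] M :=
    { toFun := fun x => x
      map_add' := fun _ _ => rfl
      map_smul' := fun _ _ => rfl
      invFun := fun x => x
      left_inv := fun _ => rfl
      right_inv := fun _ => rfl }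
  let e₁ := TensorProduct.congr (selfEquiv P Q) i
  let e₂ := TensorProduct.congr (selfEquiv A B) (LinearEquiv.refl A M)
  let e := Algebra.IsPushout.cancelBaseChange P Q A B M
  have h : ∀ z, (bcSquareHom (P := P) (Q := Q) (B := B) M).hom z = e₂.symm (e.symm (e₁ z)) := by
    intro z
    induction z using TensorProduct.induction_on with
    | zero =>
      exact (map_zero _).trans (((congrArg (fun w => e₂.symm (e.symm w)) (map_zero e₁)).trans
        ((congrArg e₂.symm (map_zero e.symm)).trans (map_zero e₂.symm))).symm)
    | tmul s x =>
      refine (bcSquareHom_tmul M (show Q from s) x).trans ?_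
      rw [TensorProduct.congr_tmul, Algebra.IsPushout.cancelBaseChange_symm_tmul, TensorProduct.congr_symm_tmul]
      rfl
    | add x y hx hy =>
      exact (map_add _ x y).trans ((congrArg₂ (· + ·) hx hy).trans
        (((congrArg (fun w => e₂.symm (e.symm w)) (map_add e₁ x y)).trans
          ((congrArg e₂.symm (map_add e.symm _ _)).trans (map_add e₂.symm _ _))).symm))
  have heq : ⇑(bcSquareHom (P := P) (Q := Q) (B := B) M).hom = fun z => e₂.symm (e.symm (e₁ z)) := funext h
  rw [heq]
  exact e₂.symm.bijective.comp (e.symm.bijective.comp e₁.bijective)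

/-- base change commutes with restriction in a cocartesian square -/
noncomputable def bcSquareIso :
    ModuleCat.restrictScalars.{u} (algebraMap P A) ⋙ ModuleCat.extendScalars.{u, u, u} (algebraMap P Q) ≅
      ModuleCat.extendScalars.{u, u, u} (algebraMap A B) ⋙ ModuleCat.restrictScalars.{u} (algebraMap Q B) :=
  NatIso.ofComponents
    (fun M => (LinearEquiv.ofBijective (bcSquareHom (P := P) (Q := Q) (B := B) M).hom
      (bcSquareHom_bijective M)).toModuleIso)
    (fun {M N} f => by
      refine ModuleCat.hom_ext (LinearMap.ext fun z => ?_)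
      induction z using TensorProduct.induction_on with
      | zero => exact (map_zero _).trans (map_zero _).symm
      | tmul s x =>
        refine (bcSquareHom_tmul N (show Q from s) _).trans ?_
        exact (congrArg (fun w => ((ModuleCat.extendScalars.{u, u, u} (algebraMap A B)).map f).hom w)
          (bcSquareHom_tmul (P := P) (Q := Q) (B := B) M (show Q from s) x)).symm
      | add x y hx hy => exact (map_add _ x y).trans ((congrArg₂ (· + ·) hx hy).trans (map_add _ x y).symm))

/-- the square on complexes -/
noncomputable def bcSquareCxIso (K : DRing.Cx A) :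
    (bc (algebraMap P Q)).obj
        (((ModuleCat.restrictScalars.{u} (algebraMap P A)).mapHomologicalComplex (ComplexShape.up ℤ)).obj K) ≅
      ((ModuleCat.restrictScalars.{u} (algebraMap Q B)).mapHomologicalComplex (ComplexShape.up ℤ)).obj
        ((bc (algebraMap A B)).obj K) :=
  HomologicalComplex.Hom.isoOfComponents (fun n => (bcSquareIso (P := P) (Q := Q) (B := B)).app (K.X n))
    (fun i j _ => ((bcSquareIso (P := P) (Q := Q) (B := B)).hom.naturality (K.d i j)).symm)

end Square

variable {R A : Type u} [CommRing R] [CommRing A] [Algebra R A]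

/-- relative pseudo-coherence of a localisation, computed on a localised presentation -/
theorem rel_away_iff {n : ℕ} (α : MvPolynomial (Fin n) R →ₐ[R] A) (hα : Function.Surjective α)
    (t : MvPolynomial (Fin n) R) (g : A) (ht : α t = g) (K : DRing.Cx A) (m : ℤ) :
    DerCA.IsRelPseudoCoherent R (Localization.Away g) m
        (DRing.toD ((bc (algebraMap A (Localization.Away g))).obj K)) ↔
      DRing.IsPseudoCoherent (Localization.Away t) m
        (DRing.toD ((bc (algebraMap (MvPolynomial (Fin n) R) (Localization.Away t))).obj
          (((ModuleCat.restrictScalars.{u} α.toRingHom).mapHomologicalComplex (ComplexShape.up ℤ)).obj K))) := by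
  subst ht
  let P := MvPolynomial (Fin n) R
  letI : Algebra P A := α.toRingHom.toAlgebra
  haveI : IsScalarTower R P A := IsScalarTower.of_algebraMap_eq fun r => (α.commutes r).symm
  let Q := Localization.Away t
  let B := Localization.Away (α t)
  haveI hloc : IsLocalization (Algebra.algebraMapSubmonoid A (Submonoid.powers t)) B := by
    rw [show Algebra.algebraMapSubmonoid A (Submonoid.powers t) = Submonoid.powers (α t) from
      Submonoid.map_powers (α.toRingHom : P →+* A) t]
    infer_instance
  letI : Algebra Q B := localizationAlgebra (Submonoid.powers t) A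
  haveI : IsScalarTower P Q B := IsScalarTower.of_algebraMap_eq' (IsLocalization.map_comp _).symm
  haveI : Algebra.IsPushout P Q A B := (Algebra.isPushout_of_isLocalization (Submonoid.powers t) Q A B).symm
  let φ : MvPolynomial (Fin 1) P →ₐ[P] Q := MvPolynomial.aeval fun _ => IsLocalization.Away.invSelf t
  have hφ : Function.Surjective φ := fun q => by
    obtain ⟨⟨p, s, k, rfl⟩, hq⟩ := IsLocalization.surj (Submonoid.powers t) q
    refine ⟨MvPolynomial.C p * MvPolynomial.X 0 ^ k, ?_⟩
    simp only [φ, map_mul, map_pow, MvPolynomial.aeval_C, MvPolynomial.aeval_X]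
    rw [← hq, map_pow, mul_assoc, ← mul_pow, IsLocalization.Away.mul_invSelf, one_pow, mul_one]
  haveI : Module.Flat P Q := IsLocalization.flat _ (Submonoid.powers t)
  haveI : Algebra.FinitePresentation P Q := IsLocalization.Away.finitePresentation t
  let ψ : MvPolynomial (Fin 1) P →ₐ[R] B :=
    { (algebraMap Q B).comp φ.toRingHom with
      commutes' := fun r => by
        show algebraMap Q B (φ (algebraMap R _ r)) = _
        rw [IsScalarTower.algebraMap_apply R P (MvPolynomial (Fin 1) P), AlgHom.commutes,
          ← IsScalarTower.algebraMap_apply P Q B, IsScalarTower.algebraMap_apply P A B,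
          ← IsScalarTower.algebraMap_apply R P A, ← IsScalarTower.algebraMap_apply R A B] }
  have hsurj : Function.Surjective (algebraMap Q B) := fun b => by
    obtain ⟨⟨a, s, k, rfl⟩, hb⟩ := IsLocalization.surj (Submonoid.powers (α t)) b
    obtain ⟨p, rfl⟩ := hα a
    refine ⟨IsLocalization.mk' Q p (⟨t ^ k, k, rfl⟩ : Submonoid.powers t), ?_⟩
    refine ((IsLocalization.Away.algebraMap_isUnit (α t)).pow k).mul_right_cancel ?_
    rw [← map_pow, hb]
    have h : algebraMap A B (α t ^ k) = algebraMap Q B (algebraMap P Q (t ^ k)) := by
      rw [← IsScalarTower.algebraMap_apply P Q B, IsScalarTower.algebraMap_apply P A B, map_pow (algebraMap P A)]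
      rfl
    rw [h, ← map_mul, IsLocalization.mk'_spec, ← IsScalarTower.algebraMap_apply P Q B,
      IsScalarTower.algebraMap_apply P A B]
    rfl
  refine (rel_iff_iter ψ (hsurj.comp hφ) m _).trans ?_
  refine ((pcHom_of_flat_fp φ hφ).pc_comp_iff (algebraMap Q B) m _).trans ?_
  let i : (DRing.restrictD (algebraMap Q B)).obj (DRing.toD ((bc (algebraMap A B)).obj K)) ≅
      DRing.toD ((bc (algebraMap P Q)).obj
        (((ModuleCat.restrictScalars.{u} (algebraMap P A)).mapHomologicalComplex (ComplexShape.up ℤ)).obj K)) :=
    (ModuleCat.restrictScalars.{u} (algebraMap Q B)).mapDerivedCategoryFactors.app ((bc (algebraMap A B)).obj K) ≪≫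
      DerivedCategory.Q.mapIso (bcSquareCxIso K).symm
  exact ⟨pc_of_iso i, pc_of_iso i.symm⟩

/-- relative pseudo-coherence passes to localisations -/
theorem rel_away_of_rel [Algebra.FiniteType R A] (g : A) (K : DRing.Cx A) (m : ℤ)
    (h : DerCA.IsRelPseudoCoherent R A m (DRing.toD K)) :
    DerCA.IsRelPseudoCoherent R (Localization.Away g) m
      (DRing.toD ((bc (algebraMap A (Localization.Away g))).obj K)) := by
  obtain ⟨n, α, hα⟩ := Algebra.FiniteType.iff_quotient_mvPolynomial''.1 (inferInstance : Algebra.FiniteType R A)
  obtain ⟨t, ht⟩ := hα g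
  refine (rel_away_iff α hα t g ht K m).2 (pc_bc_of_flat _ ?_ _ m ?_)
  · exact RingHom.flat_algebraMap_iff.mpr (IsLocalization.flat _ (Submonoid.powers t))
  · exact pc_of_iso ((ModuleCat.restrictScalars.{u} α.toRingHom).mapDerivedCategoryFactors.app K)
      ((rel_iff α hα m _).1 h)

end Groth.Agent.RelPC
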