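import Groth.Agent.RelPC.TorAcy
import Groth.Agent.RelPC.Away

/-!
Tor-independent base change of relatively pseudo-coherent complexes.
-/

set_option autoImplicit false
set_option linter.style.haveILetI false
universe u

namespace Groth.Agent.RelPC

open CategoryTheory Limits DerivedCategory MonoidalCategory HomologicalComplex
open Groth.Agent.DRingKP
open scoped TensorProduct

attribute [local instance] HasDerivedCategory.standard

section Res

variable {R : Type u} [CommRing R] {N : ModuleCat.{u} R} (RN : ProjectiveResolution N)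

/-- a projective resolution as a flat resolution -/
noncomputable def syzOfRes : Syz R N where
  F n := RN.complex.X n
  d n := (RN.complex.d (n + 1) n).hom
  π := (RN.π.f 0).hom
  flat n := by
    haveI := (IsProjective.iff_projective (RN.complex.X n)).2 (RN.projective n)
    infer_instance
  exact₀ := (ShortComplex.ShortExact.moduleCat_exact_iff_function_exact _).1
    (ShortComplex.exact_of_g_is_cokernel
      (ShortComplex.mk _ _ RN.complex_d_comp_π_f_zero) RN.isColimitCokernelCofork)
  exact n := (ShortComplex.ShortExact.moduleCat_exact_iff_function_exact _).1 (RN.exact_succ n)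
  surj := (ModuleCat.epi_iff_surjective _).1 inferInstance

/-- vanishing of Tor gives acyclicity -/
theorem acy_of_tor (M : Type u) [AddCommGroup M] [Module R M]
    (h : ∀ p : ℕ, 0 < p → IsZero (((CategoryTheory.Tor (ModuleCat.{u} R) p).obj (ModuleCat.of R M)).obj N)) :
    (syzOfRes RN).Acy M := by
  intro n
  let T := tensorLeft (ModuleCat.of R M)
  let C := (T.mapHomologicalComplex (ComplexShape.down ℕ)).obj RN.complex
  have hex : (C.sc' (n + 2) (n + 1) n).Exact := by
    rw [← C.exactAt_iff' (n + 2) (n + 1) n (by simp) (by simp), C.exactAt_iff_isZero_homology]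
    exact (h (n + 1) n.succ_pos).of_iso (RN.isoLeftDerivedObj T (n + 1)).symm
  have hE : Function.Exact ((RN.complex.d (n + 2) (n + 1)).hom.lTensor M)
      ((RN.complex.d (n + 1) n).hom.lTensor M) :=
    (ShortComplex.ShortExact.moduleCat_exact_iff_function_exact _).1 hex
  let d : ∀ n, RN.complex.X (n + 1) →ₗ[R] RN.complex.X n := fun n => (RN.complex.d (n + 1) n).hom
  change Function.Injective ((LinearMap.range (d n)).subtype.lTensor M)
  rw [injective_iff_map_eq_zero]
  intro z hz
  obtain ⟨y, rfl⟩ := LinearMap.lTensor_surjective M (d n).surjective_rangeRestrict z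
  have hy : (d n).lTensor M y = 0 := by
    rw [← hz, ← LinearMap.comp_apply, ← LinearMap.lTensor_comp, LinearMap.subtype_comp_codRestrict]
  obtain ⟨w, rfl⟩ := (hE y).1 hy
  change (d n).rangeRestrict.lTensor M ((d (n + 1)).lTensor M w) = 0
  rw [← LinearMap.comp_apply, ← LinearMap.lTensor_comp,
    show (d n).rangeRestrict.comp (d (n + 1)) = 0 from LinearMap.ext fun x => Subtype.ext
      (LinearMap.congr_fun (congrArg ModuleCat.Hom.hom (RN.complex.d_comp_d (n + 2) (n + 1) n)) x),
    LinearMap.lTensor_zero, LinearMap.zero_apply]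

end Res

section Exact

variable {R R' P P' : Type u} [CommRing R] [CommRing R'] [CommRing P] [CommRing P'] [Algebra R R'] [Algebra R P]
  [Algebra R P'] [Algebra R' P'] [Algebra P P'] [IsScalarTower R R' P'] [IsScalarTower R P P']
  [Algebra.IsPushout R R' P P']

/-- base change of an injection with acyclic cokernel -/
lemma mono_bc (S : Syz R R') {T₁ T₂ T₃ : ModuleCat.{u} P} (i : T₁ ⟶ T₂) (q : T₂ ⟶ T₃)
    (hi : Function.Injective i.hom) (hex : Function.Exact i.hom q.hom) (hq : Function.Surjective q.hom)
    (h₃ : letI : Module R T₃ := Module.compHom T₃ (algebraMap R P); S.Acy T₃) :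
    Mono ((ModuleCat.extendScalars.{u, u, u} (algebraMap P P')).map i) := by
  letI : Module R T₁ := Module.compHom T₁ (algebraMap R P)
  letI : Module R T₂ := Module.compHom T₂ (algebraMap R P)
  letI : Module R T₃ := Module.compHom T₃ (algebraMap R P)
  haveI : IsScalarTower R P T₁ := ⟨fun r p a => by rw [Algebra.smul_def, mul_smul]; rfl⟩
  haveI : IsScalarTower R P T₂ := ⟨fun r p a => by rw [Algebra.smul_def, mul_smul]; rfl⟩
  haveI : IsScalarTower R P T₃ := ⟨fun r p a => by rw [Algebra.smul_def, mul_smul]; rfl⟩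
  have h : Function.Injective ((i.hom.restrictScalars R).lTensor R') :=
    (LinearMap.lTensor_inj_iff_rTensor_inj R' _).2
      (Syz.Acy.rTensor_injective (S := S) (i.hom.restrictScalars R) (q.hom.restrictScalars R) hi hex hq h₃)
  let e₁ := TensorProduct.congr (selfEquiv P P') (LinearEquiv.refl P T₁)
  let e₂ := TensorProduct.congr (selfEquiv P P') (LinearEquiv.refl P T₂)
  let c₁ := Algebra.IsPushout.cancelBaseChange R R' P P' T₁
  let c₂ := Algebra.IsPushout.cancelBaseChange R R' P P' T₂
  have hc : ∀ z, i.hom.lTensor P' (c₁.symm z) = c₂.symm ((i.hom.restrictScalars R).lTensor R' z) := by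
    intro z
    induction z using TensorProduct.induction_on with
    | zero => simp only [map_zero]
    | tmul s t => simp [c₁, c₂]
    | add x y hx hy => simp only [map_add, hx, hy]
  rw [ModuleCat.mono_iff_injective]
  have he : ∀ z, e₂ (((ModuleCat.extendScalars.{u, u, u} (algebraMap P P')).map i).hom z) =
      i.hom.lTensor P' (e₁ z) := by
    intro z
    induction z using TensorProduct.induction_on with
    | zero =>
      exact (congrArg e₂ (map_zero _)).trans ((map_zero e₂).trans
        ((congrArg (i.hom.lTensor P') (map_zero e₁)).trans (map_zero _)).symm)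
    | tmul s t => rfl
    | add x y hx hy =>
      exact (congrArg e₂ (map_add _ x y)).trans ((map_add e₂ _ _).trans ((congrArg₂ (· + ·) hx hy).trans
        ((congrArg (i.hom.lTensor P') (map_add e₁ x y)).trans (map_add _ _ _)).symm))
  intro x y hxy
  apply e₁.injective
  obtain ⟨x', hx'⟩ := c₁.symm.surjective (e₁ x)
  obtain ⟨y', hy'⟩ := c₁.symm.surjective (e₁ y)
  have := (he x).symm.trans ((congrArg e₂ hxy).trans (he y))
  rw [← hx', ← hy', hc, hc] at this
  rw [← hx', ← hy', h (c₂.symm.injective this)]

/-- base change preserves exactness of a bounded above complex with acyclic terms -/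
theorem isZero_homology_bc (S : Syz R R') {C : DRing.Cx P} (m b : ℤ) (hb : DRing.VanishesAbove C b)
    (hC : ∀ i, letI : Module R (C.X i) := Module.compHom (C.X i) (algebraMap R P); S.Acy (C.X i))
    (hex : ∀ i, m ≤ i → IsZero (C.homology i)) (i : ℤ) (hi : m ≤ i) :
    IsZero (((bc (algebraMap P P')).obj C).homology i) := by
  let G := ModuleCat.extendScalars.{u, u, u} (algebraMap P P')
  let Z : ℤ → ModuleCat.{u} P := fun i => ModuleCat.of P (LinearMap.ker (C.d i (i + 1)).hom)
  let ι : ∀ i, Z i ⟶ C.X i := fun i => ModuleCat.ofHom (LinearMap.ker (C.d i (i + 1)).hom).subtype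
  let π : ∀ i, C.X i ⟶ Z (i + 1) := fun i => ModuleCat.ofHom ((C.d i (i + 1)).hom.codRestrict _ fun x =>
    LinearMap.congr_fun (congrArg ModuleCat.Hom.hom (C.d_comp_d i (i + 1) (i + 1 + 1))) x)
  have hπι : ∀ i, π i ≫ ι (i + 1) = C.d i (i + 1) := fun i => rfl
  have hπ : ∀ i, m - 1 ≤ i → Function.Surjective (π i).hom := by
    rintro i hi ⟨z, hz⟩
    have hx : (C.sc' i (i + 1) (i + 1 + 1)).Exact :=
      (C.exactAt_iff' i (i + 1) (i + 1 + 1) (by simp) (by simp)).1
        ((C.exactAt_iff_isZero_homology (i + 1)).2 (hex (i + 1) (by lia)))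
    obtain ⟨x, hx⟩ := ((ShortComplex.moduleCat_exact_iff_range_eq_ker _).1 hx).ge hz
    exact ⟨x, Subtype.ext hx⟩
  have hk : ∀ i, Function.Exact (ι i).hom (π i).hom := fun i x => by
    rw [Subtype.ext_iff]
    exact ⟨fun h => ⟨⟨x, h⟩, rfl⟩, fun ⟨⟨y, hy⟩, h⟩ => h ▸ hy⟩
  have hZ : ∀ (k : ℕ) (i : ℤ), m - 1 ≤ i → b < i + k →
      (letI : Module R (Z i) := Module.compHom (Z i) (algebraMap R P); S.Acy (Z i)) := by
    intro k
    induction k with
    | zero =>
      intro i _ hi
      letI : Module R (Z i) := Module.compHom (Z i) (algebraMap R P)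
      haveI : Subsingleton (C.X i) := ModuleCat.subsingleton_of_isZero (hb i (by simpa using hi))
      haveI : Subsingleton (Z i) := inferInstanceAs (Subsingleton (LinearMap.ker (C.d i (i + 1)).hom))
      exact S.acy_of_flat (Z i)
    | succ k ih =>
      intro i hi hik
      letI : Module R (Z i) := Module.compHom (Z i) (algebraMap R P)
      letI : Module R (C.X i) := Module.compHom (C.X i) (algebraMap R P)
      letI : Module R (Z (i + 1)) := Module.compHom (Z (i + 1)) (algebraMap R P)
      haveI : IsScalarTower R P (Z i) := ⟨fun r p a => by rw [Algebra.smul_def, mul_smul]; rfl⟩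
      haveI : IsScalarTower R P (C.X i) := ⟨fun r p a => by rw [Algebra.smul_def, mul_smul]; rfl⟩
      haveI : IsScalarTower R P (Z (i + 1)) := ⟨fun r p a => by rw [Algebra.smul_def, mul_smul]; rfl⟩
      exact Syz.Acy.left ((ι i).hom.restrictScalars R) ((π i).hom.restrictScalars R) Subtype.val_injective
        (hk i) (hπ i hi) (hC i) (ih (i + 1) (by lia) (by lia))
  have hmono : ∀ i, m - 1 ≤ i → Mono (G.map (ι i)) := fun i hi =>
    mono_bc S (ι i) (π i) Subtype.val_injective (hk i) (hπ i hi)
      (hZ (b + 1 - (i + 1)).toNat.succ (i + 1) (by lia) (by lia))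
  obtain ⟨j, rfl⟩ : ∃ j, i = j + 1 := ⟨i - 1, by lia⟩
  rw [← exactAt_iff_isZero_homology, exactAt_iff' _ j (j + 1) (j + 1 + 1) (by simp) (by simp)]
  let S₀ := ShortComplex.mk (ι (j + 1)) (π (j + 1)) (ModuleCat.hom_ext (LinearMap.ext fun x => Subtype.ext x.2))
  haveI : Epi S₀.g := (ModuleCat.epi_iff_surjective _).2 (hπ (j + 1) (by lia))
  haveI : Epi (π j) := (ModuleCat.epi_iff_surjective _).2 (hπ j (by lia))
  haveI : G.IsLeftAdjoint := (ModuleCat.extendRestrictScalarsAdj.{u} (algebraMap P P')).isLeftAdjoint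
  haveI : PreservesFiniteColimits G := inferInstance
  have h1 : (S₀.map G).Exact := ShortComplex.Exact.map_of_epi_of_preservesCokernel
    ((ShortComplex.ShortExact.moduleCat_exact_iff_function_exact _).2 (hk (j + 1))) G inferInstance inferInstance
  let T := ((bc (algebraMap P P')).obj C).sc' j (j + 1) (j + 1 + 1)
  let T' : ShortComplex (ModuleCat.{u} P') :=
    ShortComplex.mk (G.map (ι (j + 1))) (G.map (C.d (j + 1) (j + 1 + 1))) (by
      rw [← hπι, ← G.map_comp, ← Category.assoc, S₀.zero, zero_comp, G.map_zero])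
  let a : T ⟶ T' :=
    { τ₁ := G.map (π j)
      τ₂ := 𝟙 _
      τ₃ := 𝟙 _
      comm₁₂ := by
        change G.map (π j) ≫ G.map (ι (j + 1)) = G.map (C.d j (j + 1)) ≫ 𝟙 _
        rw [← G.map_comp, hπι, Category.comp_id]
      comm₂₃ := by
        change 𝟙 _ ≫ G.map (C.d (j + 1) (j + 1 + 1)) = G.map (C.d (j + 1) (j + 1 + 1)) ≫ 𝟙 _
        rw [Category.comp_id, Category.id_comp] }
  let c : S₀.map G ⟶ T' :=
    { τ₁ := 𝟙 _
      τ₂ := 𝟙 _
      τ₃ := G.map (ι (j + 1 + 1))
      comm₁₂ := by
        change 𝟙 _ ≫ G.map (ι (j + 1)) = G.map (ι (j + 1)) ≫ 𝟙 _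
        rw [Category.comp_id, Category.id_comp]
      comm₂₃ := by
        change 𝟙 _ ≫ G.map (C.d (j + 1) (j + 1 + 1)) = G.map (π (j + 1)) ≫ G.map (ι (j + 1 + 1))
        rw [← G.map_comp, hπι, Category.id_comp] }
  haveI : Epi a.τ₁ := inferInstanceAs (Epi (G.map (π j)))
  haveI : IsIso a.τ₂ := inferInstanceAs (IsIso (𝟙 _))
  haveI : Mono a.τ₃ := inferInstanceAs (Mono (𝟙 _))
  haveI : Epi c.τ₁ := inferInstanceAs (Epi (𝟙 _))
  haveI : IsIso c.τ₂ := inferInstanceAs (IsIso (𝟙 _))
  haveI : Mono c.τ₃ := hmono (j + 1 + 1) (by lia)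
  exact (ShortComplex.exact_iff_of_epi_of_isIso_of_mono a).2
    ((ShortComplex.exact_iff_of_epi_of_isIso_of_mono c).1 h1)

/-- base change of a pseudo-coherent complex with acyclic terms -/
theorem pc_bc_of_acy (S : Syz R R') [Module.Flat R P] {L : DRing.Cx P} {b : ℤ} (hb : DRing.VanishesAbove L b)
    (hL : ∀ i, letI : Module R (L.X i) := Module.compHom (L.X i) (algebraMap R P); S.Acy (L.X i))
    (m : ℤ) (h : DRing.IsPseudoCoherent P m (DRing.toD L)) :
    DRing.IsPseudoCoherent P' m (DRing.toD ((bc (algebraMap P P')).obj L)) := by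
  obtain ⟨E, b', α, hE, hEf, hα⟩ := pc_exists_ge h
  haveI := isKProjective_of_vanishesAbove (fun i hi => hE i (Or.inr hi))
    (projective_X (termwiseFiniteProjective_of_free hEf))
  obtain ⟨g, hg⟩ := PerfLocal.exists_lift α
  rw [← hg] at hα
  refine pc_iff.2 ⟨(bc (algebraMap P P')).obj E, m, b', DerivedCategory.Q.map ((bc (algebraMap P P')).map g),
    fun i hi => (ModuleCat.extendScalars.{u, u, u} (algebraMap P P')).map_isZero (hE i hi),
    fun i => extendScalars_finiteFree (algebraMap P P') (hEf i), (isAbove_cone _).2 fun i hi => ?_⟩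
  refine IsZero.of_iso ?_ ((HomologicalComplex.homologyFunctor (ModuleCat.{u} P') (ComplexShape.up ℤ) i).mapIso
    (CochainComplex.mappingCone.mapHomologicalComplexIso g (ModuleCat.extendScalars.{u, u, u} (algebraMap P P')))).symm
  refine isZero_homology_bc S m (max b b') (fun j hj => ?_) (fun j => ?_) ((isAbove_cone g).1 hα) i hi
  · exact IsZero.of_iso (biprod_isZero_iff _ _ |>.2 ⟨hE (j + 1) (by lia), hb j (by lia)⟩)
      (HomologicalComplex.homotopyCofiber.XIsoBiprod g j (j + 1) rfl)
  · letI : Module R (E.X (j + 1)) := Module.compHom (E.X (j + 1)) (algebraMap R P)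
    letI : Module R (L.X j) := Module.compHom (L.X j) (algebraMap R P)
    letI : Module R ((CochainComplex.mappingCone g).X j) := Module.compHom _ (algebraMap R P)
    haveI : IsScalarTower R P (E.X (j + 1)) := ⟨fun r p a => by rw [Algebra.smul_def, mul_smul]; rfl⟩
    haveI : IsScalarTower R P (L.X j) := ⟨fun r p a => by rw [Algebra.smul_def, mul_smul]; rfl⟩
    haveI : IsScalarTower R P ((CochainComplex.mappingCone g).X j) :=
      ⟨fun r p a => by rw [Algebra.smul_def, mul_smul]; rfl⟩
    haveI := (hEf (j + 1)).2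
    haveI : Module.Flat R (E.X (j + 1)) := Module.Flat.trans R P _
    let e : ((CochainComplex.mappingCone g).X j) ≃ₗ[P] (E.X (j + 1) × L.X j) := (HomologicalComplex.homotopyCofiber.XIsoBiprod g j (j + 1) rfl ≪≫
      ModuleCat.biprodIsoProd (E.X (j + 1)) (L.X j)).toLinearEquiv
    exact S.acy_of_linearEquiv (e.restrictScalars R).symm (S.acy_prod (S.acy_of_flat _) (hL j))

end Exact

section Main

variable {R A R' : Type u} [CommRing R] [CommRing A] [CommRing R'] [Algebra R A] [Algebra.FiniteType R A]
  [Algebra R R']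

set_option maxHeartbeats 1000000 in
/-- Tor-independent base change of the base ring -/
theorem rel_tor_bc (htor : ∀ p : ℕ, 0 < p → Subsingleton (DRing.Tor R p A R'))
    [DRing.HasLBaseChange (Algebra.TensorProduct.includeRight : A →ₐ[R] R' ⊗[R] A).toRingHom]
    (K : Dual.D A) (m : ℤ) (hK : DerCA.IsRelPseudoCoherent R A m K) :
    DerCA.IsRelPseudoCoherent R' (R' ⊗[R] A) m
      ((DRing.LBaseChange (Algebra.TensorProduct.includeRight : A →ₐ[R] R' ⊗[R] A).toRingHom).obj K) := by
  obtain ⟨n, α, hα⟩ := Algebra.FiniteType.iff_quotient_mvPolynomial''.1 (inferInstance : Algebra.FiniteType R A)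
  let P := MvPolynomial (Fin n) R
  let P' := MvPolynomial (Fin n) R'
  let B := R' ⊗[R] A
  letI : Algebra A B := (Algebra.TensorProduct.includeRight : A →ₐ[R] R' ⊗[R] A).toRingHom.toAlgebra
  letI : Algebra P P' := MvPolynomial.algebraMvPolynomial
  letI : Algebra P A := α.toRingHom.toAlgebra
  haveI : IsScalarTower R P A := IsScalarTower.of_algebraMap_eq fun r => (α.commutes r).symm
  let β : P' →ₐ[R'] B := MvPolynomial.aeval fun i => Algebra.TensorProduct.includeRight (α (MvPolynomial.X i))
  letI : Algebra P' B := β.toRingHom.toAlgebra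
  letI : Algebra P B := ((algebraMap A B).comp α.toRingHom).toAlgebra
  haveI : IsScalarTower P A B := IsScalarTower.of_algebraMap_eq fun _ => rfl
  haveI : IsScalarTower R A B := IsScalarTower.of_algebraMap_eq fun r =>
    ((Algebra.TensorProduct.includeRight : A →ₐ[R] R' ⊗[R] A).commutes r).symm
  haveI : IsScalarTower R' P' B := IsScalarTower.of_algebraMap_eq fun r => (β.commutes r).symm
  haveI : IsScalarTower R P' B := IsScalarTower.of_algebraMap_eq fun r => by
    rw [IsScalarTower.algebraMap_apply R R' B, IsScalarTower.algebraMap_apply R R' P',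
      IsScalarTower.algebraMap_apply R' P' B]
  haveI : IsScalarTower P P' B := IsScalarTower.of_algebraMap_eq' (MvPolynomial.ringHom_ext
    (fun r => by
      change Algebra.TensorProduct.includeRight (α (algebraMap R P r)) =
        β (MvPolynomial.map (algebraMap R R') (algebraMap R P r))
      rw [AlgHom.commutes, AlgHom.commutes, MvPolynomial.algebraMap_eq, MvPolynomial.map_C]
      change _ = β (algebraMap R' P' (algebraMap R R' r))
      rw [AlgHom.commutes, ← IsScalarTower.algebraMap_apply])
    (fun i => by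
      change Algebra.TensorProduct.includeRight (α (MvPolynomial.X i)) =
        β (MvPolynomial.map (algebraMap R R') (MvPolynomial.X i))
      rw [MvPolynomial.map_X]
      exact (MvPolynomial.aeval_X (R := R') (fun j => (Algebra.TensorProduct.includeRight (α (MvPolynomial.X j)) : B)) i).symm))
  haveI : Algebra.IsPushout R P R' P' := .symm inferInstance
  haveI : Algebra.IsPushout R A R' B := .symm inferInstance
  haveI : Algebra.IsPushout P P' A B :=
    ((Algebra.IsPushout.comp_iff (R := R) (S := P) (R' := R') (S' := P') (T := A) (T' := B)).1 inferInstance).symm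
  have hβ : Function.Surjective β := by
    have hr : ∀ a : A, Algebra.TensorProduct.includeRight a ∈ Set.range β := fun a => by
      obtain ⟨p, rfl⟩ := hα a
      exact ⟨algebraMap P P' p, ((IsScalarTower.algebraMap_apply P P' B p).symm.trans
        (IsScalarTower.algebraMap_apply P A B p))⟩
    intro z
    induction z using TensorProduct.induction_on with
    | zero => exact ⟨0, map_zero β⟩
    | tmul s a =>
      obtain ⟨p, hp⟩ := hr a
      refine ⟨algebraMap R' P' s * p, ?_⟩
      rw [map_mul, AlgHom.commutes, hp]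
      change (s ⊗ₜ[R] (1 : A)) * ((1 : R') ⊗ₜ[R] a) = _
      rw [Algebra.TensorProduct.tmul_mul_tmul, mul_one, one_mul]
    | add x y hx hy =>
      obtain ⟨p, rfl⟩ := hx
      obtain ⟨q, rfl⟩ := hy
      exact ⟨p + q, map_add β p q⟩
  have hPK := (rel_iff α hα m K).1 hK
  obtain ⟨c, hc⟩ := pc_bounded hPK
  obtain ⟨L, b, hb, hL, ⟨e⟩⟩ := exists_proj_rep_le K ⟨c, (isAbove_res α.toRingHom).1 hc⟩
  haveI := isKProjective_of_vanishesAbove hb hL
  let RN := projectiveResolution (ModuleCat.of R R')
  let S : Syz R R' := syzOfRes RN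
  have hA : S.Acy A := acy_of_tor RN A fun p hp =>
    haveI := htor p hp
    ModuleCat.isZero_of_subsingleton _
  let F := ModuleCat.restrictScalars.{u} α.toRingHom
  have hacy : ∀ i, letI : Module R (F.obj (L.X i)) := Module.compHom _ (algebraMap R P); S.Acy (F.obj (L.X i)) := by
    intro i
    letI : Module R (L.X i) := Module.compHom (L.X i) (algebraMap R A)
    letI : Module R (F.obj (L.X i)) := Module.compHom _ (algebraMap R P)
    haveI : IsScalarTower R A (L.X i) := ⟨fun r p a => by rw [Algebra.smul_def, mul_smul]; rfl⟩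
    haveI := (IsProjective.iff_projective (L.X i)).2 (hL i)
    haveI : Module.Flat A (L.X i) := inferInstance
    let e' : L.X i ≃ₗ[R] F.obj (L.X i) :=
      { toFun := fun x => x
        map_add' := fun _ _ => rfl
        map_smul' := fun r x => by
          show algebraMap R A r • x = α (algebraMap R P r) • x
          rw [AlgHom.commutes]
        invFun := fun x => x
        left_inv := fun _ => rfl
        right_inv := fun _ => rfl }
    exact S.acy_of_linearEquiv e' (S.acy_of_flat_over hA (L.X i))
  have h1 : DRing.IsPseudoCoherent P m (DRing.toD ((F.mapHomologicalComplex (ComplexShape.up ℤ)).obj L)) :=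
    pc_of_iso ((DRing.restrictD α.toRingHom).mapIso e.symm ≪≫ F.mapDerivedCategoryFactors.app L) hPK
  let L₀ : DRing.Cx P := (F.mapHomologicalComplex (ComplexShape.up ℤ)).obj L
  have hb₀ : DRing.VanishesAbove L₀ b := fun i hi => F.map_isZero (hb i hi)
  have hacy₀ : ∀ i, letI : Module R (L₀.X i) := Module.compHom (L₀.X i) (algebraMap R P); S.Acy (L₀.X i) := hacy
  have h2 : DRing.IsPseudoCoherent P' m (DRing.toD ((bc (algebraMap P P')).obj L₀)) :=
    pc_bc_of_acy (R := R) (R' := R') (P := P) (P' := P') S hb₀ hacy₀ m h1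
  refine (rel_iff β hβ m _).2 (pc_of_iso ?_ h2)
  exact ((DRing.restrictD β.toRingHom).mapIso
      ((DRing.LBaseChange _).mapIso e.symm ≪≫ lBaseChangeIso _ L) ≪≫
    (ModuleCat.restrictScalars.{u} β.toRingHom).mapDerivedCategoryFactors.app ((bc (algebraMap A B)).obj L) ≪≫
    DerivedCategory.Q.mapIso (bcSquareCxIso (P := P) (Q := P') (B := B) L).symm).symm

end Main

end Groth.Agent.RelPC
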