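import Groth.Agent.RelPC.More
import Groth.Agent.FlatCartier.Alg
import Mathlib.RingTheory.TensorProduct.MvPolynomial

/-!
Relative pseudo-coherence of modules and flat base change along `A → B`.
-/

set_option autoImplicit false
set_option linter.style.haveILetI false
universe u

namespace Groth.Agent.RelPC

open CategoryTheory Limits DerivedCategory
open Groth.Agent.DRingKP
open scoped TensorProduct

attribute [local instance] HasDerivedCategory.standard

/-- the kernel of a surjection between flat modules is flat -/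
lemma flat_kernel {A N₁ N₂ N₃ : Type u} [CommRing A] [AddCommGroup N₁] [Module A N₁] [AddCommGroup N₂] [Module A N₂]
    [AddCommGroup N₃] [Module A N₃] [Module.Flat A N₂] [Module.Flat A N₃] (i : N₁ →ₗ[A] N₂) (q : N₂ →ₗ[A] N₃)
    (hi : Function.Injective i) (hex : Function.Exact i q) (hq : Function.Surjective q) : Module.Flat A N₁ := by
  rw [Module.Flat.iff_lTensor_preserves_injective_linearMap]
  intro P P' _ _ _ _ f hf
  have h : Function.Injective ((i.rTensor P').comp (f.lTensor N₁)) := by
    rw [LinearMap.rTensor_comp_lTensor, ← LinearMap.lTensor_comp_rTensor, LinearMap.coe_comp]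
    exact (Module.Flat.lTensor_preserves_injective_linearMap f hf).comp
      (FlatCartier.rTensor_injective_of_flat_cokernel i q hi hex hq P)
  rw [LinearMap.coe_comp] at h
  exact h.of_comp

section

variable {A A' Q : Type u} [CommRing A] [CommRing A'] [CommRing Q] [Algebra A A'] [Algebra Q A']
  (M : Type u) [AddCommGroup M] [Module A M]

/-- pseudo-coherence of `N ⊗[A] M` over `Q` -/
def TensorPC (m : ℤ) (N : Type u) [AddCommGroup N] [Module A N] [Module A' N] [IsScalarTower A A' N] : Prop :=
  DRing.IsPseudoCoherentModule Q m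
    ((ModuleCat.restrictScalars.{u} (algebraMap Q A')).obj (ModuleCat.of A' (N ⊗[A] M)))

section Seq

variable {N₁ N₂ N₃ : Type u} [AddCommGroup N₁] [Module A N₁] [Module A' N₁] [IsScalarTower A A' N₁]
  [AddCommGroup N₂] [Module A N₂] [Module A' N₂] [IsScalarTower A A' N₂]
  [AddCommGroup N₃] [Module A N₃] [Module A' N₃] [IsScalarTower A A' N₃] [Module.Flat A N₃]

/-- the tensored short exact sequence -/
lemma exists_tensorSeq (i : N₁ →ₗ[A'] N₂) (q : N₂ →ₗ[A'] N₃)
    (hi : Function.Injective i) (hex : Function.Exact i q) (hq : Function.Surjective q) :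
    ∃ S : ShortComplex (ModuleCat.{u} Q), S.ShortExact ∧
      S.X₁ = (ModuleCat.restrictScalars.{u} (algebraMap Q A')).obj (ModuleCat.of A' (N₁ ⊗[A] M)) ∧
      S.X₂ = (ModuleCat.restrictScalars.{u} (algebraMap Q A')).obj (ModuleCat.of A' (N₂ ⊗[A] M)) ∧
      S.X₃ = (ModuleCat.restrictScalars.{u} (algebraMap Q A')).obj (ModuleCat.of A' (N₃ ⊗[A] M)) := by
  let f : N₁ ⊗[A] M →ₗ[A'] N₂ ⊗[A] M := TensorProduct.AlgebraTensorModule.rTensor A M i
  let g : N₂ ⊗[A] M →ₗ[A'] N₃ ⊗[A] M := TensorProduct.AlgebraTensorModule.rTensor A M q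
  have hf : ∀ x, f x = (i.restrictScalars A).rTensor M x := fun x => rfl
  have hg : ∀ x, g x = (q.restrictScalars A).rTensor M x := fun x => rfl
  have he : Function.Exact ((i.restrictScalars A).rTensor M) ((q.restrictScalars A).rTensor M) :=
    rTensor_exact M (f := i.restrictScalars A) (g := q.restrictScalars A) hex hq
  have h0 : ModuleCat.ofHom f ≫ ModuleCat.ofHom g = 0 := by
    refine ModuleCat.hom_ext (LinearMap.ext fun x => ?_)
    show g (f x) = 0
    rw [hf, hg]
    exact he.apply_apply_eq_zero x
  let S₀ := ShortComplex.mk (ModuleCat.ofHom f) (ModuleCat.ofHom g) h0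
  have hS₀ : S₀.ShortExact :=
    { exact := by
        rw [ShortComplex.moduleCat_exact_iff]
        exact fun x hx => (he x).1 hx
      mono_f := (ModuleCat.mono_iff_injective _).2
        (FlatCartier.rTensor_injective_of_flat_cokernel (i.restrictScalars A) (q.restrictScalars A) hi hex hq M)
      epi_g := (ModuleCat.epi_iff_surjective _).2 (LinearMap.rTensor_surjective M (g := q.restrictScalars A) hq) }
  exact ⟨_, hS₀.map_of_exact (ModuleCat.restrictScalars.{u} (algebraMap Q A')), rfl, rfl, rfl⟩

lemma tensorPC_quotient (i : N₁ →ₗ[A'] N₂) (q : N₂ →ₗ[A'] N₃)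
    (hi : Function.Injective i) (hex : Function.Exact i q) (hq : Function.Surjective q) (m : ℤ)
    (h₁ : TensorPC (A := A) (A' := A') (Q := Q) M (m + 1) N₁) (h₂ : TensorPC (A := A) (A' := A') (Q := Q) M m N₂) :
    TensorPC (A := A) (A' := A') (Q := Q) M m N₃ := by
  obtain ⟨S, hS, e₁, e₂, e₃⟩ := exists_tensorSeq (A := A) (A' := A') (Q := Q) M i q hi hex hq
  unfold TensorPC at h₁ h₂ ⊢
  rw [← e₁] at h₁; rw [← e₂] at h₂; rw [← e₃]
  exact pcModule_quotient hS m h₁ h₂

lemma tensorPC_ext (i : N₁ →ₗ[A'] N₂) (q : N₂ →ₗ[A'] N₃)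
    (hi : Function.Injective i) (hex : Function.Exact i q) (hq : Function.Surjective q) (m : ℤ)
    (h₁ : TensorPC (A := A) (A' := A') (Q := Q) M m N₁) (h₃ : TensorPC (A := A) (A' := A') (Q := Q) M m N₃) :
    TensorPC (A := A) (A' := A') (Q := Q) M m N₂ := by
  obtain ⟨S, hS, e₁, e₂, e₃⟩ := exists_tensorSeq (A := A) (A' := A') (Q := Q) M i q hi hex hq
  unfold TensorPC at h₁ h₃ ⊢
  rw [← e₁] at h₁; rw [← e₃] at h₃; rw [← e₂]
  exact pc_obj₂ _ hS.singleTriangle_distinguished m h₁ h₃

end Seq

variable [Module.Flat A A']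

instance flatFun (r : ℕ) : Module.Flat A (Fin r → A') :=
  Module.Flat.of_linearEquiv (M := Π₀ _ : Fin r, A') (DFinsupp.linearEquivFunOnFintype (R := A) (M := fun _ : Fin r => A')).symm

lemma tensorPC_free (m : ℤ) (h : TensorPC (A := A) (A' := A') (Q := Q) M m A') :
    ∀ r : ℕ, TensorPC (A := A) (A' := A') (Q := Q) M m (Fin r → A') := by
  intro r
  induction r with
  | zero =>
    haveI : Subsingleton ((Fin 0 → A') ⊗[A] M) := subsingleton_of_forall_eq 0 fun x => by
      induction x using TensorProduct.induction_on with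
      | zero => rfl
      | tmul a y => rw [Subsingleton.elim a 0, TensorProduct.zero_tmul]
      | add x y hx hy => rw [hx, hy, add_zero]
    exact pc_of_isAbove fun i _ =>
      ((DerivedCategory.singleFunctor (ModuleCat.{u} Q) 0) ⋙ DerivedCategory.homologyFunctor _ i).map_isZero
        ((ModuleCat.restrictScalars.{u} (algebraMap Q A')).map_isZero
          (ModuleCat.isZero_of_subsingleton (ModuleCat.of A' ((Fin 0 → A') ⊗[A] M))))
  | succ r ih =>
    refine tensorPC_ext M (LinearMap.single A' (fun _ : Fin (r + 1) => A') 0) (LinearMap.funLeft A' A' Fin.succ)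
      (Pi.single_injective (M := fun _ : Fin (r + 1) => A') 0) (fun x => ⟨fun hx => ?_, ?_⟩)
      (LinearMap.funLeft_surjective_of_injective A' A' Fin.succ (Fin.succ_injective r)) m h ih
    · refine ⟨x 0, funext fun j => ?_⟩
      refine Fin.cases ?_ (fun j => ?_) j
      · simp
      · have hj := congrFun hx j
        simp only [LinearMap.funLeft_apply, Pi.zero_apply] at hj
        simp [hj]
    · rintro ⟨a, rfl⟩
      ext j
      simp [LinearMap.funLeft_apply]

theorem tensorPC_of_pc : ∀ (d : ℕ) (m : ℤ), 1 ≤ m + d → TensorPC (A := A) (A' := A') (Q := Q) M m A' →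
    ∀ (N : Type u) [AddCommGroup N] [Module A N] [Module A' N] [IsScalarTower A A' N] [Module.Flat A N],
      DRing.IsPseudoCoherentModule' A' N → TensorPC (A := A) (A' := A') (Q := Q) M m N := by
  intro d
  induction d with
  | zero =>
    intro m hm _ N _ _ _ _ _ _
    exact pc_of_isAbove (isAbove_mono (by lia) (isAbove_single _ 0))
  | succ d ih =>
    intro m hm h N _ _ _ _ _ hN
    haveI : Module.Finite A' N := (pcModule_zero_iff (ModuleCat.of A' N)).1 (pc_of_pc' hN 0)
    obtain ⟨r, p, hp⟩ := Module.Finite.exists_fin' A' N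
    let i := (LinearMap.ker p).subtype
    have hex : Function.Exact i p := LinearMap.exact_subtype_ker_map p
    haveI : Module.Flat A ↥(LinearMap.ker p) :=
      flat_kernel (i.restrictScalars A) (p.restrictScalars A) Subtype.val_injective hex hp
    have hS : (ShortComplex.mk (ModuleCat.ofHom i) (ModuleCat.ofHom p)
        (ModuleCat.hom_ext (LinearMap.ext fun x => x.2))).ShortExact :=
      { exact := (ShortComplex.moduleCat_exact_iff_range_eq_ker _).2 (Submodule.range_subtype _)
        mono_f := (ModuleCat.mono_iff_injective _).2 Subtype.val_injective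
        epi_g := (ModuleCat.epi_iff_surjective _).2 hp }
    have hK : DRing.IsPseudoCoherentModule' A' ↥(LinearMap.ker p) := pc'_of_forall fun k => by
      have := pc_obj₁ _ hS.singleTriangle_distinguished (k - 1)
        (pcModule_of_free (ModuleCat.of A' (Fin r → A')) _) (pc_of_pc' hN (k - 1))
      rwa [sub_add_cancel] at this
    exact tensorPC_quotient M i p Subtype.val_injective hex hp m
      (ih (m + 1) (by lia) (pc_mono (by lia) h) _ hK) (tensorPC_free M m h r)

end

section

variable {R A B : Type u} [CommRing R] [CommRing A] [CommRing B] [Algebra R A] [Algebra A B] [Algebra R B]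
  [IsScalarTower R A B] [Algebra.FiniteType R A] [Algebra.FiniteType A B] [Module.Flat A B]

/-- flat base change of relatively pseudo-coherent modules -/
theorem rel_flat_bc (hB : DerCA.IsRelPseudoCoherentModuleAll A B B) (m : ℤ) (M : Type u) [AddCommGroup M]
    [Module A M] (hM : DerCA.IsRelPseudoCoherentModule R A m M) :
    DerCA.IsRelPseudoCoherentModule R B m (B ⊗[A] M) := by
  obtain ⟨n, α, hα⟩ := Algebra.FiniteType.iff_quotient_mvPolynomial''.1 (inferInstance : Algebra.FiniteType R A)
  obtain ⟨k, β, hβ⟩ := Algebra.FiniteType.iff_quotient_mvPolynomial''.1 (inferInstance : Algebra.FiniteType A B)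
  let P := MvPolynomial (Fin n) R
  let P' := MvPolynomial (Fin k) P
  let A' := MvPolynomial (Fin k) A
  letI : Algebra P A := α.toRingHom.toAlgebra
  letI : Algebra P' A' := MvPolynomial.algebraMvPolynomial
  letI : Algebra A' B := β.toRingHom.toAlgebra
  haveI : IsScalarTower A A' B := IsScalarTower.of_algebraMap_eq fun a => (β.commutes a).symm
  have hB' : DRing.IsPseudoCoherentModule' A' B := (pcHom_iff_module A' B).1 ((relAll_iff β hβ _).1 hB)
  letI : Module P M := Module.compHom M α.toRingHom
  haveI : IsScalarTower P A M := ⟨fun p a x => by rw [Algebra.smul_def, mul_smul]; rfl⟩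
  let e : ((ModuleCat.restrictScalars.{u} α.toRingHom).obj (ModuleCat.of A M)) ≃ₗ[P] M :=
    { toFun := fun x => x
      map_add' := fun _ _ => rfl
      map_smul' := fun _ _ => rfl
      invFun := fun x => x
      left_inv := fun _ => rfl
      right_inv := fun _ => rfl }
  have hM' : DRing.IsPseudoCoherentModule P m M :=
    pc_of_iso (resInDIso α.toRingHom (ModuleCat.of A M) ≪≫
      (DerivedCategory.singleFunctor (ModuleCat.{u} P) 0).mapIso e.toModuleIso) ((rel_iff α hα m _).1 hM)
  let c : (ModuleCat.restrictScalars.{u} (algebraMap P' A')).obj (ModuleCat.of A' (A' ⊗[A] M)) ≃ₗ[P'] A' ⊗[A] M :=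
    { toFun := fun x => x
      map_add' := fun _ _ => rfl
      map_smul' := fun p x => (algebraMap_smul A' p (show A' ⊗[A] M from x)).symm ▸ rfl
      invFun := fun x => x
      left_inv := fun _ => rfl
      right_inv := fun _ => rfl }
  have h : TensorPC (A := A) (A' := A') (Q := P') M m A' :=
    pcModule_of_iso
      ((Algebra.IsPushout.cancelBaseChange P P' A A' M).symm.trans c.symm).toModuleIso
      (pcModule_baseChange (B := P') m M hM')
  have hN := tensorPC_of_pc (A := A) (A' := A') (Q := P') M (1 - m).toNat m (by lia) h B hB'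
  let ψ : P' →ₐ[R] B :=
    { β.toRingHom.comp (MvPolynomial.map α.toRingHom) with
      commutes' := fun r => by
        show β (MvPolynomial.map α.toRingHom (algebraMap R _ r)) = _
        rw [MvPolynomial.algebraMap_apply, MvPolynomial.map_C]
        change β (MvPolynomial.C (α (algebraMap R P r))) = _
        rw [AlgHom.commutes, ← MvPolynomial.algebraMap_eq, AlgHom.commutes, ← IsScalarTower.algebraMap_apply] }
  have hψ : Function.Surjective ψ := hβ.comp (MvPolynomial.map_surjective α.toRingHom hα)
  let d : (ModuleCat.restrictScalars.{u} (algebraMap P' A')).obj (ModuleCat.of A' (B ⊗[A] M)) ≃ₗ[P']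
      (ModuleCat.restrictScalars.{u} ψ.toRingHom).obj (ModuleCat.of B (B ⊗[A] M)) :=
    { toFun := fun x => x
      map_add' := fun _ _ => rfl
      map_smul' := fun p x => by
        show (algebraMap P' A' p) • (show B ⊗[A] M from x) = (ψ p) • (show B ⊗[A] M from x)
        exact (algebraMap_smul B (algebraMap P' A' p) (show B ⊗[A] M from x)).symm
      invFun := fun x => x
      left_inv := fun _ => rfl
      right_inv := fun _ => rfl }
  exact (rel_iff_iter ψ hψ m _).2
    (pc_of_iso (resInDIso ψ.toRingHom (ModuleCat.of B (B ⊗[A] M))).symm (pcModule_of_iso d.toModuleIso hN))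

end

end Groth.Agent.RelPC
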