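import Groth.Agent.DRingKP.Restrict
import Groth.Agent.DRingKP.Tor
import Groth.Prelude.Def_DerCA
import Groth.Prelude.Def_DDual2
import Mathlib

/-!
Pseudo-coherence relative to a base ring: pseudo-coherent ring maps and independence of the presentation.
-/

set_option autoImplicit false
set_option linter.style.haveILetI false
universe u

namespace Groth.Agent.RelPC

open CategoryTheory Limits DerivedCategory
open Groth.Agent.DRingKP

attribute [local instance] HasDerivedCategory.standard

variable {A B C : Type u} [CommRing A] [CommRing B] [CommRing C]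

/-- restriction in stages -/
noncomputable def restrictCompIso (f : A →+* B) (g : B →+* C) (K : Dual.D C) :
    (DRing.restrictD (g.comp f)).obj K ≅ (DRing.restrictD f).obj ((DRing.restrictD g).obj K) :=
  let F := ModuleCat.restrictScalars.{u} f
  let G := ModuleCat.restrictScalars.{u} g
  let H := ModuleCat.restrictScalars.{u} (g.comp f)
  let X : DRing.Cx C := DerivedCategory.Q.objPreimage K
  let eX : DRing.toD X ≅ K := DerivedCategory.Q.objObjPreimageIso K
  (DRing.restrictD (g.comp f)).mapIso eX.symm ≪≫ H.mapDerivedCategoryFactors.app X ≪≫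
    DerivedCategory.Q.mapIso (HomologicalComplex.Hom.isoOfComponents
      (C₁ := (H.mapHomologicalComplex (ComplexShape.up ℤ)).obj X)
      (C₂ := (F.mapHomologicalComplex (ComplexShape.up ℤ)).obj ((G.mapHomologicalComplex (ComplexShape.up ℤ)).obj X))
      (fun n => (ModuleCat.restrictScalarsComp.{u} f g).app (X.X n))
      (fun i j _ => ((ModuleCat.restrictScalarsComp.{u} f g).hom.naturality (X.d i j)).symm)) ≪≫
    (F.mapDerivedCategoryFactors.app ((G.mapHomologicalComplex (ComplexShape.up ℤ)).obj X)).symm ≪≫
    (DRing.restrictD f).mapIso ((G.mapDerivedCategoryFactors.app X).symm ≪≫ (DRing.restrictD g).mapIso eX)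

/-- restriction of a module in degree zero -/
noncomputable def resInDIso (f : A →+* B) (M : ModuleCat.{u} B) :
    (DRing.restrictD f).obj (Dual.inD B M) ≅ Dual.inD A ((ModuleCat.restrictScalars.{u} f).obj M) :=
  ((ModuleCat.restrictScalars.{u} f).mapDerivedCategorySingleFunctor 0).app M

lemma pc_comp_iff (f : A →+* B) (g : B →+* C) (m : ℤ) (K : Dual.D C) :
    DRing.IsPseudoCoherent A m ((DRing.restrictD (g.comp f)).obj K) ↔
      DRing.IsPseudoCoherent A m ((DRing.restrictD f).obj ((DRing.restrictD g).obj K)) :=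
  ⟨pc_of_iso (restrictCompIso f g K), pc_of_iso (restrictCompIso f g K).symm⟩

/-- a pseudo-coherent ring map -/
def PCHom (f : A →+* B) : Prop :=
  DRing.IsPseudoCoherent' A ((DRing.restrictD f).obj (Dual.inD B B))

/-- the identity of underlying modules -/
def selfEquiv (A B : Type u) [CommRing A] [CommRing B] [Algebra A B] :
    ((ModuleCat.restrictScalars.{u} (algebraMap A B)).obj (ModuleCat.of B B)) ≃ₗ[A] B where
  toFun x := x
  map_add' _ _ := rfl
  map_smul' a x := (Algebra.smul_def a (show B from x)).symm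
  invFun x := x
  left_inv _ := rfl
  right_inv _ := rfl

/-- the identity of underlying modules, as an isomorphism in `D(A)` -/
noncomputable def algebraIso (A B : Type u) [CommRing A] [CommRing B] [Algebra A B] :
    (DRing.restrictD (algebraMap A B)).obj (Dual.inD B B) ≅ Dual.inD A B :=
  resInDIso (algebraMap A B) (ModuleCat.of B B) ≪≫
    (DerivedCategory.singleFunctor (ModuleCat.{u} A) 0).mapIso (selfEquiv A B).toModuleIso

lemma pcHom_iff_module (A B : Type u) [CommRing A] [CommRing B] [Algebra A B] :
    PCHom (algebraMap A B) ↔ DRing.IsPseudoCoherentModule' A B := by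
  rw [PCHom, pc'_iff]
  refine Iff.trans ?_ pc'_iff.symm
  exact forall_congr' fun m => ⟨pc_of_iso (algebraIso A B), pc_of_iso (algebraIso A B).symm⟩

lemma PCHom.pc_iff {f : A →+* B} (hf : PCHom f) (m : ℤ) (K : Dual.D B) :
    DRing.IsPseudoCoherent A m ((DRing.restrictD f).obj K) ↔ DRing.IsPseudoCoherent B m K := by
  letI := f.toAlgebra
  exact (pc_res_iff ((pcHom_iff_module A B).1 hf) m K).symm

lemma PCHom.comp_iff {f : A →+* B} (hf : PCHom f) (g : B →+* C) : PCHom (g.comp f) ↔ PCHom g := by
  rw [PCHom, PCHom, pc'_iff, pc'_iff]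
  exact forall_congr' fun m => (pc_comp_iff f g m _).trans (hf.pc_iff m _)

lemma PCHom.comp {f : A →+* B} (hf : PCHom f) {g : B →+* C} (hg : PCHom g) : PCHom (g.comp f) :=
  (hf.comp_iff g).2 hg

/-- the pullback formulation of composition -/
lemma PCHom.pc_comp_iff {f : A →+* B} (hf : PCHom f) (g : B →+* C) (m : ℤ) (K : Dual.D C) :
    DRing.IsPseudoCoherent A m ((DRing.restrictD (g.comp f)).obj K) ↔
      DRing.IsPseudoCoherent B m ((DRing.restrictD g).obj K) :=
  (RelPC.pc_comp_iff f g m K).trans (hf.pc_iff m _)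

lemma pcHom_of_finite_free [Algebra A B] [Module.Finite A B] [Module.Free A B] : PCHom (algebraMap A B) :=
  (pcHom_iff_module A B).2 (pc'_of_forall fun m => pcModule_of_free (ModuleCat.of A B) m)

lemma pcHom_of_bijective {f : A →+* B} (hf : Function.Bijective f) : PCHom f := by
  letI := f.toAlgebra
  let e : A ≃ₗ[A] B := LinearEquiv.ofBijective (Algebra.linearMap A B) hf
  haveI : Module.Finite A B := Module.Finite.equiv e
  haveI : Module.Free A B := Module.Free.of_equiv e
  exact pcHom_of_finite_free (A := A) (B := B)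

lemma pcHom_of_ringEquiv (e : A ≃+* B) : PCHom (e : A →+* B) := pcHom_of_bijective e.bijective

/-- evaluation of one variable -/
lemma pcHom_evalRingHom (c : A) : PCHom (Polynomial.evalRingHom c) := by
  letI := (Polynomial.evalRingHom c).toAlgebra
  refine (pcHom_iff_module (Polynomial A) A).2 (pc'_of_forall fun k => ?_)
  let f : ModuleCat.of (Polynomial A) (Polynomial A) ⟶ ModuleCat.of (Polynomial A) (Polynomial A) :=
    ModuleCat.ofHom (LinearMap.mulRight (Polynomial A) (Polynomial.X - Polynomial.C c))
  let g : ModuleCat.of (Polynomial A) (Polynomial A) ⟶ ModuleCat.of (Polynomial A) A :=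
    ModuleCat.ofHom (Algebra.linearMap (Polynomial A) A)
  have hz : f ≫ g = 0 := by
    ext
    simp [f, g, RingHom.algebraMap_toAlgebra]
  have hinj : Function.Injective f.hom := fun x y h =>
    (Polynomial.monic_X_sub_C c).isRegular.right h
  have hsurj : Function.Surjective g.hom := fun r => ⟨Polynomial.C r, by
    simp [g, RingHom.algebraMap_toAlgebra]⟩
  have hex : (ShortComplex.mk f g hz).Exact := by
    rw [ShortComplex.moduleCat_exact_iff]
    intro p hp
    have h0 : p.IsRoot c := by
      simpa [g, RingHom.algebraMap_toAlgebra] using hp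
    obtain ⟨q, hq⟩ := Polynomial.dvd_iff_isRoot.2 h0
    exact ⟨q, by simp [f, hq, mul_comm]⟩
  exact pcModule_quotient
    { exact := hex, mono_f := (ModuleCat.mono_iff_injective f).2 hinj,
      epi_g := (ModuleCat.epi_iff_surjective g).2 hsurj } k
    (pcModule_of_free (ModuleCat.of (Polynomial A) (Polynomial A)) _)
    (pcModule_of_free (ModuleCat.of (Polynomial A) (Polynomial A)) _)

/-- evaluation of finitely many variables -/
lemma pcHom_eval : ∀ {n : ℕ} (g : Fin n → A), PCHom (MvPolynomial.eval g) := by
  intro n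
  induction n with
  | zero =>
    intro g
    refine pcHom_of_bijective ⟨fun p q h => ?_, fun a => ⟨MvPolynomial.C a, MvPolynomial.eval_C a⟩⟩
    obtain ⟨a, rfl⟩ := MvPolynomial.C_surjective (R := A) (Fin 0) p
    obtain ⟨b, rfl⟩ := MvPolynomial.C_surjective (R := A) (Fin 0) q
    simpa using h
  | succ n ih =>
    intro g
    have h : MvPolynomial.eval g = ((MvPolynomial.eval (g ∘ Fin.succ)).comp
        (Polynomial.evalRingHom (MvPolynomial.C (g 0)))).comp
        ((MvPolynomial.finSuccEquiv A n).toRingEquiv : MvPolynomial (Fin (n + 1)) A →+* _) := by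
      refine MvPolynomial.ringHom_ext (fun a => ?_) fun i => ?_
      · simp [MvPolynomial.finSuccEquiv_apply]
      · refine Fin.cases ?_ (fun j => ?_) i
        · simp [MvPolynomial.finSuccEquiv_X_zero]
        · simp [MvPolynomial.finSuccEquiv_X_succ]
    rw [h]
    exact (pcHom_of_ringEquiv _).comp ((pcHom_evalRingHom _).comp (ih _))

/-- the retraction onto the first block of variables -/
lemma pcHom_sum (R : Type u) [CommRing R] {ι : Type} {k : ℕ} (g : Fin k → MvPolynomial ι R) :
    PCHom (MvPolynomial.aeval (R := R) (Sum.elim g MvPolynomial.X) :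
      MvPolynomial (Fin k ⊕ ι) R →ₐ[R] MvPolynomial ι R).toRingHom := by
  have h : (MvPolynomial.aeval (R := R) (Sum.elim g MvPolynomial.X) :
      MvPolynomial (Fin k ⊕ ι) R →ₐ[R] MvPolynomial ι R).toRingHom =
      (MvPolynomial.eval g).comp ((MvPolynomial.sumRingEquiv R (Fin k) ι) : _ →+* _) := by
    refine MvPolynomial.ringHom_ext (fun a => ?_) fun i => ?_
    · simp
    · rcases i with i | i
      · simp
      · simp
  rw [h]
  exact (pcHom_of_ringEquiv _).comp (pcHom_eval g)

/-- **independence of the presentation** -/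
theorem via_iff {R : Type u} [CommRing R] [Algebra R A] {n k : ℕ} (α : MvPolynomial (Fin n) R →ₐ[R] A)
    (hα : Function.Surjective α) (β : MvPolynomial (Fin k) R →ₐ[R] A) (hβ : Function.Surjective β)
    (m : ℤ) (K : Dual.D A) :
    DerCA.IsRelPseudoCoherentVia α m K ↔ DerCA.IsRelPseudoCoherentVia β m K := by
  choose g hg using fun j : Fin k => hα (β (MvPolynomial.X j))
  choose g' hg' using fun i : Fin n => hβ (α (MvPolynomial.X i))
  let π : MvPolynomial (Fin k ⊕ Fin n) R →ₐ[R] MvPolynomial (Fin n) R :=
    MvPolynomial.aeval (Sum.elim g MvPolynomial.X)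
  let π' : MvPolynomial (Fin n ⊕ Fin k) R →ₐ[R] MvPolynomial (Fin k) R :=
    MvPolynomial.aeval (Sum.elim g' MvPolynomial.X)
  let σ := MvPolynomial.renameEquiv R (Equiv.sumComm (Fin k) (Fin n))
  have heq : α.toRingHom.comp π.toRingHom =
      β.toRingHom.comp (π'.toRingHom.comp (σ.toRingEquiv : _ →+* _)) := by
    refine MvPolynomial.ringHom_ext (fun a => ?_) fun i => ?_
    · simp [π, π', σ]
    · rcases i with i | i
      · simp [π, π', σ, hg]
      · simp [π, π', σ, hg']
  have h1 := (pcHom_sum R g).pc_comp_iff α.toRingHom m K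
  have h2 := ((pcHom_of_ringEquiv σ.toRingEquiv).comp (pcHom_sum R g')).pc_comp_iff β.toRingHom m K
  rw [heq] at h1
  exact h1.symm.trans h2

/-- the "some presentation" form agrees with any presentation -/
theorem rel_iff {R : Type u} [CommRing R] [Algebra R A] {n : ℕ} (α : MvPolynomial (Fin n) R →ₐ[R] A)
    (hα : Function.Surjective α) (m : ℤ) (K : Dual.D A) :
    DerCA.IsRelPseudoCoherent R A m K ↔
      DRing.IsPseudoCoherent (MvPolynomial (Fin n) R) m ((DRing.restrictD (α.toRingHom)).obj K) := by
  refine ⟨fun ⟨k, β, hβ, h⟩ => (via_iff β hβ α hα m K).1 h, fun h => ⟨n, α, hα, h⟩⟩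

theorem relAll_iff {R : Type u} [CommRing R] [Algebra R A] {n : ℕ} (α : MvPolynomial (Fin n) R →ₐ[R] A)
    (hα : Function.Surjective α) (K : Dual.D A) :
    DerCA.IsRelPseudoCoherentAll R A K ↔
      DRing.IsPseudoCoherent' (MvPolynomial (Fin n) R) ((DRing.restrictD (α.toRingHom)).obj K) := by
  rw [pc'_iff]
  exact forall_congr' fun m => rel_iff α hα m K

end Groth.Agent.RelPC
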