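import Mathlib

/-!
Modules which are acyclic for tensoring with the terms of a flat resolution.
-/

set_option autoImplicit false
set_option linter.style.haveILetI false
universe u

namespace Groth.Agent.RelPC

open scoped TensorProduct

variable {R : Type u} [CommRing R]

/-- tensoring a sequence stays injective when the quotient is acyclic for the second one -/
theorem rTensor_injective_of_acy {T₁ T₂ T₃ K F Q : Type u} [AddCommGroup T₁] [Module R T₁] [AddCommGroup T₂]
    [Module R T₂] [AddCommGroup T₃] [Module R T₃] [AddCommGroup K] [Module R K] [AddCommGroup F] [Module R F]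
    [AddCommGroup Q] [Module R Q] [Module.Flat R F] (i : T₁ →ₗ[R] T₂) (q : T₂ →ₗ[R] T₃)
    (hi : Function.Injective i) (hex : Function.Exact i q) (hq : Function.Surjective q)
    (j : K →ₗ[R] F) (π : F →ₗ[R] Q) (hjπ : Function.Exact j π) (hπ : Function.Surjective π)
    (hT : Function.Injective (j.lTensor T₃)) : Function.Injective (i.rTensor Q) := by
  rw [injective_iff_map_eq_zero]
  intro x hx
  obtain ⟨y, rfl⟩ := LinearMap.lTensor_surjective T₁ hπ x
  have h1 : π.lTensor T₂ (i.rTensor F y) = 0 := by
    rw [← hx]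
    simp only [← LinearMap.comp_apply, LinearMap.rTensor_comp_lTensor, LinearMap.lTensor_comp_rTensor]
  obtain ⟨z, hz⟩ := (lTensor_exact (R := R) (f := j) T₂ hjπ hπ _).1 h1
  have h2 : q.rTensor K z = 0 := by
    apply hT
    rw [map_zero]
    have h3 : q.rTensor F (j.lTensor T₂ z) = 0 := by
      rw [hz, ← LinearMap.comp_apply, ← LinearMap.rTensor_comp,
        show q.comp i = 0 from LinearMap.ext fun n => hex.apply_apply_eq_zero n, LinearMap.rTensor_zero]
      rfl
    rw [← h3]
    simp only [← LinearMap.comp_apply, LinearMap.rTensor_comp_lTensor, LinearMap.lTensor_comp_rTensor]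
  obtain ⟨w, hw⟩ := (rTensor_exact K hex hq _).1 h2
  have h4 : y = j.lTensor T₁ w := by
    apply Module.Flat.rTensor_preserves_injective_linearMap (M := F) i hi
    rw [← hz, ← hw]
    simp only [← LinearMap.comp_apply, LinearMap.rTensor_comp_lTensor, LinearMap.lTensor_comp_rTensor]
  rw [h4, ← LinearMap.comp_apply, ← LinearMap.lTensor_comp,
    show π.comp j = 0 from LinearMap.ext fun n => hjπ.apply_apply_eq_zero n, LinearMap.lTensor_zero]
  rfl

/-- a flat resolution of `Q` -/
structure Syz (R : Type u) [CommRing R] (Q : Type u) [AddCommGroup Q] [Module R Q] where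
  F : ℕ → ModuleCat.{u} R
  d : ∀ n, F (n + 1) →ₗ[R] F n
  π : F 0 →ₗ[R] Q
  flat : ∀ n, Module.Flat R (F n)
  exact₀ : Function.Exact (d 0) π
  exact : ∀ n, Function.Exact (d (n + 1)) (d n)
  surj : Function.Surjective π

variable {Q : Type u} [AddCommGroup Q] [Module R Q] (S : Syz R Q)

/-- the module is acyclic with respect to the resolution -/
def Syz.Acy (T : Type u) [AddCommGroup T] [Module R T] : Prop :=
  ∀ n, Function.Injective ((LinearMap.range (S.d n)).subtype.lTensor T)

lemma Syz.acy_of_flat (T : Type u) [AddCommGroup T] [Module R T] [Module.Flat R T] : S.Acy T := fun _ =>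
  Module.Flat.lTensor_preserves_injective_linearMap _ Subtype.val_injective

lemma Syz.acy_of_flat_over {A : Type u} [CommRing A] [Algebra R A] (hA : S.Acy A) (T : Type u) [AddCommGroup T]
    [Module R T] [Module A T] [IsScalarTower R A T] [Module.Flat A T] : S.Acy T := by
  intro n
  let j := (LinearMap.range (S.d n)).subtype
  let j' : A ⊗[R] LinearMap.range (S.d n) →ₗ[A] A ⊗[R] S.F n := j.baseChange A
  have hj' : Function.Injective j' := hA n
  have h := Module.Flat.lTensor_preserves_injective_linearMap (M := T) j' hj'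
  let e₁ := TensorProduct.AlgebraTensorModule.cancelBaseChange R A A T (LinearMap.range (S.d n))
  let e₂ := TensorProduct.AlgebraTensorModule.cancelBaseChange R A A T (S.F n)
  have hsq : ∀ z, j.lTensor T (e₁ z) = e₂ (j'.lTensor T z) := by
    intro z
    induction z using TensorProduct.induction_on with
    | zero => simp only [map_zero]
    | tmul t x =>
      induction x using TensorProduct.induction_on with
      | zero => simp only [TensorProduct.tmul_zero, map_zero]
      | tmul a k => simp [e₁, e₂, j']
      | add x y hx hy => simp only [TensorProduct.tmul_add, map_add, hx, hy]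
    | add x y hx hy => simp only [map_add, hx, hy]
  intro x y hxy
  obtain ⟨x, rfl⟩ := e₁.surjective x
  obtain ⟨y, rfl⟩ := e₁.surjective y
  exact congrArg e₁ (h (e₂.injective ((hsq x).symm.trans (hxy.trans (hsq y)))))

lemma Syz.exact_range (n : ℕ) : Function.Exact (LinearMap.range (S.d (n + 1))).subtype (S.d n).rangeRestrict :=
  fun x => by
    rw [Subtype.ext_iff]
    refine (S.exact n x).trans ⟨fun h => ?_, fun h => ?_⟩
    · exact ⟨⟨x, h⟩, rfl⟩
    · obtain ⟨⟨y, hy⟩, rfl⟩ := h
      exact hy

lemma Syz.exact_range₀ : Function.Exact (LinearMap.range (S.d 0)).subtype S.π := fun x => by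
  refine (S.exact₀ x).trans ⟨fun h => ⟨⟨x, h⟩, rfl⟩, fun h => ?_⟩
  obtain ⟨⟨y, hy⟩, rfl⟩ := h
  exact hy

section Seq

variable {S} {T₁ T₂ T₃ : Type u} [AddCommGroup T₁] [Module R T₁] [AddCommGroup T₂]
  [Module R T₂] [AddCommGroup T₃] [Module R T₃] (i : T₁ →ₗ[R] T₂) (q : T₂ →ₗ[R] T₃)
  (hi : Function.Injective i) (hex : Function.Exact i q) (hq : Function.Surjective q)

include hi hex hq

lemma Syz.Acy.rTensor_injective (h₃ : S.Acy T₃) : Function.Injective (i.rTensor Q) :=
  haveI := S.flat 0
  rTensor_injective_of_acy i q hi hex hq _ S.π S.exact_range₀ S.surj (h₃ 0)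

lemma Syz.Acy.left (h₂ : S.Acy T₂) (h₃ : S.Acy T₃) : S.Acy T₁ := by
  intro n
  haveI := S.flat (n + 1)
  have h := (h₂ n).comp (rTensor_injective_of_acy i q hi hex hq _ (S.d n).rangeRestrict (S.exact_range n)
    (S.d n).surjective_rangeRestrict (h₃ (n + 1)))
  rw [← LinearMap.coe_comp, LinearMap.lTensor_comp_rTensor, ← LinearMap.rTensor_comp_lTensor,
    LinearMap.coe_comp] at h
  exact h.of_comp

lemma Syz.Acy.middle (h₁ : S.Acy T₁) (h₃ : S.Acy T₃) : S.Acy T₂ := by
  intro n
  haveI := S.flat n
  let j := (LinearMap.range (S.d n)).subtype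
  rw [injective_iff_map_eq_zero]
  intro x hx
  have h0 : q.rTensor (LinearMap.range (S.d n)) x = 0 := by
    apply h₃ n
    rw [map_zero, ← LinearMap.comp_apply, LinearMap.lTensor_comp_rTensor, ← LinearMap.rTensor_comp_lTensor,
      LinearMap.comp_apply, hx, map_zero]
  obtain ⟨y, rfl⟩ := (rTensor_exact _ hex hq _).1 h0
  have h1 : j.lTensor T₁ y = 0 := by
    apply Module.Flat.rTensor_preserves_injective_linearMap (M := S.F n) i hi
    rw [map_zero, ← LinearMap.comp_apply, LinearMap.rTensor_comp_lTensor, ← LinearMap.lTensor_comp_rTensor,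
      LinearMap.comp_apply, hx]
  rw [(injective_iff_map_eq_zero _).1 (h₁ n) y h1, map_zero]

end Seq

lemma Syz.acy_prod {T T' : Type u} [AddCommGroup T] [Module R T] [AddCommGroup T'] [Module R T']
    (h : S.Acy T) (h' : S.Acy T') : S.Acy (T × T') :=
  Syz.Acy.middle (LinearMap.inl R T T') (LinearMap.snd R T T') LinearMap.inl_injective
    Function.Exact.inl_snd LinearMap.snd_surjective h h'

lemma Syz.acy_of_linearEquiv {T T' : Type u} [AddCommGroup T] [Module R T] [AddCommGroup T'] [Module R T']
    (e : T ≃ₗ[R] T') (h : S.Acy T) : S.Acy T' := by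
  intro n
  intro x y hxy
  apply (e.symm.rTensor (LinearMap.range (S.d n))).injective
  apply h n
  have hc : ∀ z, (LinearMap.range (S.d n)).subtype.lTensor T (e.symm.rTensor _ z) =
      e.symm.rTensor (S.F n) ((LinearMap.range (S.d n)).subtype.lTensor T' z) := fun z => by
    induction z using TensorProduct.induction_on with
    | zero => simp only [map_zero]
    | tmul t k => rfl
    | add x y hx hy => simp only [map_add, hx, hy]
  rw [hc, hc, hxy]

end Groth.Agent.RelPC
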